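import Mathlib
import Cfsg.Agent.Og.BNA

/-! Coordinates of commutators. -/

set_option autoImplicit false
set_option linter.unusedSectionVars false
set_option maxRecDepth 20000
set_option maxHeartbeats 4000000

namespace Cfsg.Agent.Oc

open Cfsg.Agent.Og SG
open scoped commutatorElement

variable {K : Type*} [Field K] [CharP K 2] {s : Sg K}

@[simp] theorem cm_a1 (p r : SG s) : ⁅p, r⁆.a1 =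
    0 := by
  simp [commutatorElement_def] <;> grind

@[simp] theorem cm_a8 (p r : SG s) : ⁅p, r⁆.a8 =
    0 := by
  simp [commutatorElement_def] <;> grind

@[simp] theorem cm_a2 (p r : SG s) : ⁅p, r⁆.a2 =
    p.a1 * r.a8 + p.a8 * r.a1 := by
  simp [commutatorElement_def] <;> grind

@[simp] theorem cm_u8 (p r : SG s) : ⁅p, r⁆.u8 =
    p.a8 * s.σ r.a8 + s.σ p.a8 * r.a8 := by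
  simp [commutatorElement_def] <;> grind

@[simp] theorem cm_a4 (p r : SG s) : ⁅p, r⁆.a4 =
    s.σ p.a1 * r.u8 + s.σ p.a2 * r.a8 + p.a8 * s.σ r.a2 + p.u8 * s.σ r.a1 + s.σ p.a1 * p.a8 * s.σ r.a8 + s.σ
    p.a1 * s.σ p.a8 * r.a8 + p.a8 * s.σ r.a1 * s.σ r.a8 + s.σ p.a8 * s.σ r.a1 * r.a8 := by
  simp [commutatorElement_def] <;> grind

@[simp] theorem cm_a6 (p r : SG s) : ⁅p, r⁆.a6 =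
    p.a1 * r.u8 + p.a2 * s.σ r.a8 + s.σ p.a8 * r.a2 + p.u8 * r.a1 + p.a1 * p.a8 * s.σ r.a8 + p.a1 * s.σ p.a8 *
    r.a8 + p.a1 * r.a8 * s.σ r.a8 + p.a8 * s.σ p.a8 * r.a1 + p.a8 * r.a1 * s.σ r.a8 + s.σ p.a8 * r.a1 * r.a8 := by
  simp [commutatorElement_def] <;> grind

@[simp] theorem cm_u2 (p r : SG s) : ⁅p, r⁆.u2 =
    p.a1 * r.a4 + s.σ p.a1 * r.a6 + p.a2 * s.σ r.a2 + s.σ p.a2 * r.a2 + p.a4 * r.a1 + p.a6 * s.σ r.a1 + p.a1 *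
    s.σ p.a1 * r.u8 + p.a1 * s.σ p.a2 * r.a8 + p.a1 * p.a8 * s.σ r.a2 + p.a1 * p.u8 * s.σ r.a1 + p.a1 * s.σ
    r.a1 * r.u8 + p.a1 * s.σ r.a2 * r.a8 + s.σ p.a1 * p.a2 * s.σ r.a8 + s.σ p.a1 * s.σ p.a8 * r.a2 + s.σ p.a1
    * p.u8 * r.a1 + s.σ p.a1 * r.a1 * r.u8 + s.σ p.a1 * r.a2 * s.σ r.a8 + p.a2 * s.σ p.a8 * s.σ r.a1 + p.a2 *
    s.σ r.a1 * s.σ r.a8 + s.σ p.a2 * p.a8 * r.a1 + s.σ p.a2 * r.a1 * r.a8 + p.a8 * r.a1 * s.σ r.a2 + s.σ p.a8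
    * s.σ r.a1 * r.a2 + p.u8 * r.a1 * s.σ r.a1 + p.a1 * s.σ p.a1 * p.a8 * s.σ r.a8 + p.a1 * s.σ p.a1 * s.σ
    p.a8 * r.a8 + p.a1 * p.a8 * s.σ r.a1 * s.σ r.a8 + p.a1 * s.σ p.a8 * s.σ r.a1 * r.a8 + p.a1 * s.σ r.a1 *
    r.a8 * s.σ r.a8 + s.σ p.a1 * p.a8 * s.σ p.a8 * r.a1 + s.σ p.a1 * s.σ p.a8 * r.a1 * r.a8 + p.a8 * s.σ p.a8
    * r.a1 * s.σ r.a1 + p.a8 * r.a1 * s.σ r.a1 * s.σ r.a8 + s.σ p.a8 * r.a1 * s.σ r.a1 * r.a8 := by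
  simp [commutatorElement_def] <;> grind

@[simp] theorem cm_a7 (p r : SG s) : ⁅p, r⁆.a7 =
    p.a1 * s.σ r.u8 + p.a2 * r.u8 + p.a6 * r.a8 + p.a8 * r.a6 + p.u8 * r.a2 + s.σ p.u8 * r.a1 + p.a1 * r.a8 *
    r.u8 + p.a2 * p.a8 * s.σ r.a8 + p.a2 * s.σ p.a8 * r.a8 + p.a8 * p.u8 * r.a1 + p.a8 * r.a2 * s.σ r.a8 + s.σ
    p.a8 * r.a2 * r.a8 + p.a1 * p.a8 * r.a8 * s.σ r.a8 + p.a1 * p.a8 ^ 2 * s.σ r.a8 + p.a1 * r.a8 ^ 2 * s.σ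
    r.a8 + p.a8 ^ 2 * s.σ p.a8 * r.a1 + p.a8 ^ 2 * r.a1 * s.σ r.a8 + s.σ p.a8 * r.a1 * r.a8 ^ 2 := by
  simp [commutatorElement_def] <;> grind

@[simp] theorem cm_a3 (p r : SG s) : ⁅p, r⁆.a3 =
    p.a1 * s.σ r.a6 + s.σ p.a1 * r.a7 + p.a2 * r.a4 + p.a4 * r.a2 + s.σ p.a6 * r.a1 + p.a7 * s.σ r.a1 + p.a8 *
    r.u2 + p.u2 * r.a8 + p.a1 * s.σ p.a1 * s.σ r.u8 + p.a1 * s.σ p.u8 * s.σ r.a1 + p.a1 * s.σ r.a1 * s.σ r.u8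
    + p.a1 * r.a4 * r.a8 + s.σ p.a1 * p.a2 * r.u8 + s.σ p.a1 * p.a6 * r.a8 + s.σ p.a1 * p.a8 * r.a6 + s.σ p.a1
    * p.u8 * r.a2 + s.σ p.a1 * s.σ p.u8 * r.a1 + s.σ p.a1 * r.a1 * s.σ r.u8 + s.σ p.a1 * r.a2 * r.u8 + p.a2 *
    p.a8 * s.σ r.a2 + p.a2 * p.u8 * s.σ r.a1 + p.a2 * s.σ r.a1 * r.u8 + s.σ p.a2 * r.a2 * r.a8 + p.a4 * p.a8 *
    r.a1 + p.a6 * s.σ r.a1 * r.a8 + p.a8 * s.σ r.a1 * r.a6 + p.u8 * s.σ r.a1 * r.a2 + s.σ p.u8 * r.a1 * s.σ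
    r.a1 + p.a1 * s.σ p.a1 * r.a8 * r.u8 + p.a1 * p.a8 * s.σ r.a2 * r.a8 + p.a1 * p.a8 ^ 2 * s.σ r.a2 + p.a1 *
    p.u8 * s.σ r.a1 * r.a8 + p.a1 * s.σ r.a1 * r.a8 * r.u8 + s.σ p.a1 * p.a2 * p.a8 * s.σ r.a8 + s.σ p.a1 *
    p.a2 * s.σ p.a8 * r.a8 + s.σ p.a1 * p.a8 * p.u8 * r.a1 + s.σ p.a1 * p.a8 * r.a2 * s.σ r.a8 + s.σ p.a1 *
    s.σ p.a8 * r.a2 * r.a8 + p.a2 * p.a8 * s.σ r.a1 * s.σ r.a8 + p.a2 * s.σ p.a8 * s.σ r.a1 * r.a8 + s.σ p.a2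
    * r.a1 * r.a8 ^ 2 + p.a8 * s.σ r.a1 * r.a2 * s.σ r.a8 + p.a8 ^ 2 * r.a1 * s.σ r.a2 + s.σ p.a8 * s.σ r.a1 *
    r.a2 * r.a8 + p.a1 * s.σ p.a1 * p.a8 * r.a8 * s.σ r.a8 + p.a1 * s.σ p.a1 * p.a8 ^ 2 * s.σ r.a8 + p.a1 *
    s.σ p.a1 * r.a8 ^ 2 * s.σ r.a8 + p.a1 * p.a8 * s.σ r.a1 * r.a8 * s.σ r.a8 + p.a1 * p.a8 ^ 2 * s.σ p.a8 *
    s.σ r.a1 + p.a1 * p.a8 ^ 2 * s.σ r.a1 * s.σ r.a8 + p.a1 * s.σ r.a1 * r.a8 ^ 2 * s.σ r.a8 + s.σ p.a1 * p.a8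
    ^ 2 * s.σ p.a8 * r.a1 + s.σ p.a1 * p.a8 ^ 2 * r.a1 * s.σ r.a8 + s.σ p.a1 * s.σ p.a8 * r.a1 * r.a8 ^ 2 +
    s.σ p.a1 * r.a1 * r.a8 ^ 2 * s.σ r.a8 + p.a8 ^ 2 * s.σ p.a8 * r.a1 * s.σ r.a1 + p.a8 ^ 2 * r.a1 * s.σ r.a1
    * s.σ r.a8 + s.σ p.a8 * r.a1 * s.σ r.a1 * r.a8 ^ 2 := by
  simp [commutatorElement_def] <;> grind

@[simp] theorem cm_a5 (p r : SG s) : ⁅p, r⁆.a5 =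
    p.a1 * s.σ r.a7 + s.σ p.a2 * r.a7 + p.a3 * s.σ r.a8 + p.a4 * r.a6 + p.a6 * r.a4 + p.a7 * s.σ r.a2 + s.σ
    p.a7 * r.a1 + s.σ p.a8 * r.a3 + p.u2 * r.u8 + p.u8 * r.u2 + p.a1 * s.σ p.a2 * s.σ r.u8 + p.a1 * s.σ p.a6 *
    s.σ r.a8 + p.a1 * s.σ p.a8 * s.σ r.a6 + p.a1 * s.σ p.u8 * s.σ r.a2 + p.a1 * s.σ r.a2 * s.σ r.u8 + p.a1 *
    r.a4 * r.u8 + s.σ p.a1 * r.a6 * r.u8 + s.σ p.a1 * r.a7 * s.σ r.a8 + p.a2 * s.σ p.a2 * r.u8 + p.a2 * s.σ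
    r.a2 * r.u8 + p.a2 * r.a4 * s.σ r.a8 + s.σ p.a2 * p.a6 * r.a8 + s.σ p.a2 * p.a8 * r.a6 + s.σ p.a2 * p.u8 *
    r.a2 + s.σ p.a2 * s.σ p.u8 * r.a1 + s.σ p.a2 * r.a1 * s.σ r.u8 + s.σ p.a2 * r.a6 * r.a8 + p.a4 * s.σ p.a8
    * r.a2 + p.a4 * p.u8 * r.a1 + p.a6 * p.a8 * s.σ r.a2 + p.a6 * p.u8 * s.σ r.a1 + p.a6 * s.σ r.a2 * r.a8 +
    s.σ p.a6 * r.a1 * s.σ r.a8 + p.a7 * s.σ p.a8 * s.σ r.a1 + p.a8 * s.σ p.a8 * r.u2 + p.a8 * p.u2 * s.σ r.a8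
    + p.a8 * s.σ r.a2 * r.a6 + p.a8 * s.σ r.a8 * r.u2 + s.σ p.a8 * p.u2 * r.a8 + s.σ p.a8 * r.a1 * s.σ r.a6 +
    s.σ p.a8 * r.a8 * r.u2 + p.u2 * r.a8 * s.σ r.a8 + p.u8 * r.a2 * s.σ r.a2 + s.σ p.u8 * r.a1 * s.σ r.a2 +
    p.a1 * s.σ p.a1 * s.σ r.a8 * s.σ r.u8 + p.a1 * s.σ p.a1 * r.u8 ^ 2 + p.a1 * p.a8 * r.a4 * s.σ r.a8 + p.a1
    * s.σ p.a8 * s.σ p.u8 * s.σ r.a1 + p.a1 * s.σ p.a8 * r.a4 * r.a8 + p.a1 * p.u8 ^ 2 * s.σ r.a1 + p.a1 * s.σ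
    r.a2 * r.a8 * r.u8 + p.a1 * r.a4 * r.a8 * s.σ r.a8 + s.σ p.a1 * p.a6 * r.a8 * s.σ r.a8 + s.σ p.a1 * s.σ
    p.a8 * r.a2 * r.u8 + s.σ p.a1 * s.σ p.a8 * r.a6 * r.a8 + s.σ p.a1 * p.u8 * r.a1 * r.u8 + s.σ p.a1 * p.u8 *
    r.a2 * s.σ r.a8 + s.σ p.a1 * s.σ p.u8 * r.a1 * s.σ r.a8 + s.σ p.a1 * r.a1 * s.σ r.a8 * s.σ r.u8 + s.σ p.a1
    * r.a1 * r.u8 ^ 2 + p.a2 * s.σ p.a2 * p.a8 * s.σ r.a8 + p.a2 * s.σ p.a2 * s.σ p.a8 * r.a8 + p.a2 * s.σ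
    p.a2 * r.a8 * s.σ r.a8 + p.a2 * p.a8 * s.σ r.a2 * s.σ r.a8 + p.a2 * s.σ p.a8 * s.σ r.a2 * r.a8 + s.σ p.a2
    * p.a8 * p.u8 * r.a1 + s.σ p.a2 * s.σ p.a8 * r.a2 * r.a8 + s.σ p.a2 * p.u8 * r.a1 * r.a8 + p.a4 * p.a8 *
    s.σ p.a8 * r.a1 + p.a8 * p.u8 * r.a1 * s.σ r.a2 + p.a8 * r.a2 * s.σ r.a2 * s.σ r.a8 + s.σ p.a8 * r.a2 *
    s.σ r.a2 * r.a8 + p.a1 * s.σ p.a2 * p.a8 ^ 2 * s.σ r.a8 + p.a1 * s.σ p.a2 * s.σ p.a8 * r.a8 ^ 2 + p.a1 *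
    p.a8 * s.σ r.a1 * s.σ r.a8 * r.u8 + p.a1 * p.a8 * s.σ r.a2 * r.a8 * s.σ r.a8 + p.a1 * p.a8 ^ 2 * s.σ r.a2
    * s.σ r.a8 + p.a1 * s.σ p.a8 * s.σ r.a1 * r.a8 * r.u8 + p.a1 * s.σ r.a2 * r.a8 ^ 2 * s.σ r.a8 + s.σ p.a1 *
    p.a8 * s.σ p.a8 * r.a1 * r.u8 + s.σ p.a1 * p.a8 * s.σ p.a8 * r.a2 * s.σ r.a8 + s.σ p.a1 * s.σ p.a8 * p.u8
    * r.a1 * r.a8 + s.σ p.a1 * s.σ p.a8 ^ 2 * r.a2 * r.a8 + p.a2 * p.a8 * s.σ r.a1 * s.σ r.a8 ^ 2 + p.a2 * s.σ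
    p.a8 * s.σ r.a1 * r.a8 * s.σ r.a8 + s.σ p.a2 * p.a8 * s.σ p.a8 * r.a1 * r.a8 + s.σ p.a2 * p.a8 ^ 2 * s.σ
    p.a8 * r.a1 + s.σ p.a2 * p.a8 ^ 2 * r.a1 * s.σ r.a8 + s.σ p.a2 * s.σ p.a8 * r.a1 * r.a8 ^ 2 + p.a8 * s.σ
    p.a8 * s.σ r.a1 * r.a2 * s.σ r.a8 + p.a8 * p.u8 * r.a1 * s.σ r.a1 * s.σ r.a8 + p.a8 ^ 2 * s.σ p.a8 * r.a1
    * s.σ r.a2 + p.a8 ^ 2 * r.a1 * s.σ r.a2 * s.σ r.a8 + s.σ p.a8 * p.u8 * r.a1 * s.σ r.a1 * r.a8 + s.σ p.a8 *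
    r.a1 * s.σ r.a2 * r.a8 ^ 2 + s.σ p.a8 ^ 2 * s.σ r.a1 * r.a2 * r.a8 + p.a1 * s.σ p.a1 * s.σ p.a8 * r.a8 ^ 2
    * s.σ r.a8 + p.a1 * s.σ p.a1 * s.σ p.a8 ^ 2 * r.a8 ^ 2 + p.a1 * s.σ p.a1 * r.a8 ^ 2 * s.σ r.a8 ^ 2 + p.a1
    * p.a8 * s.σ r.a1 * r.a8 * s.σ r.a8 ^ 2 + p.a1 * p.a8 ^ 2 * s.σ p.a8 ^ 2 * s.σ r.a1 + p.a1 * p.a8 ^ 2 *
    s.σ r.a1 * s.σ r.a8 ^ 2 + p.a1 * s.σ p.a8 * s.σ r.a1 * r.a8 ^ 2 * s.σ r.a8 + p.a1 * s.σ p.a8 ^ 2 * s.σ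
    r.a1 * r.a8 ^ 2 + s.σ p.a1 * p.a8 * s.σ p.a8 ^ 2 * r.a1 * r.a8 + s.σ p.a1 * s.σ p.a8 * r.a1 * r.a8 ^ 2 *
    s.σ r.a8 + s.σ p.a1 * s.σ p.a8 ^ 2 * r.a1 * r.a8 ^ 2 + s.σ p.a1 * r.a1 * r.a8 ^ 2 * s.σ r.a8 ^ 2 + p.a8 *
    s.σ p.a8 ^ 2 * r.a1 * s.σ r.a1 * r.a8 + p.a8 ^ 2 * s.σ p.a8 * r.a1 * s.σ r.a1 * s.σ r.a8 + p.a8 ^ 2 * r.a1
    * s.σ r.a1 * s.σ r.a8 ^ 2 + s.σ p.a8 ^ 2 * r.a1 * s.σ r.a1 * r.a8 ^ 2 := by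
  simp [commutatorElement_def] <;> grind

@[simp] theorem cm_u6 (p r : SG s) : ⁅p, r⁆.u6 =
    p.a2 * s.σ r.a7 + p.a3 * r.u8 + p.a4 * r.a7 + p.a5 * r.a8 + p.a6 * s.σ r.a6 + s.σ p.a6 * r.a6 + p.a7 *
    r.a4 + s.σ p.a7 * r.a2 + p.a8 * r.a5 + p.u2 * s.σ r.u8 + p.u8 * r.a3 + s.σ p.u8 * r.u2 + p.a1 * r.a4 * s.σ
    r.u8 + p.a1 * s.σ r.a6 * r.u8 + p.a1 * s.σ r.a7 * r.a8 + s.σ p.a1 * r.a6 * s.σ r.u8 + s.σ p.a1 * r.a7 *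
    r.u8 + p.a2 * s.σ p.a6 * s.σ r.a8 + p.a2 * s.σ p.a8 * s.σ r.a6 + p.a2 * s.σ p.u8 * s.σ r.a2 + p.a2 * r.a4
    * r.u8 + p.a2 * s.σ r.a6 * s.σ r.a8 + s.σ p.a2 * r.a2 * s.σ r.u8 + s.σ p.a2 * r.a7 * r.a8 + p.a3 * p.a8 *
    s.σ r.a8 + p.a3 * s.σ p.a8 * r.a8 + p.a4 * p.a6 * r.a8 + p.a4 * p.a8 * r.a6 + p.a4 * p.u8 * r.a2 + p.a4 *
    s.σ p.u8 * r.a1 + p.a6 * s.σ p.u8 * s.σ r.a1 + p.a6 * r.a4 * r.a8 + s.σ p.a6 * s.σ p.a8 * r.a2 + s.σ p.a6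
    * p.u8 * r.a1 + s.σ p.a6 * r.a2 * s.σ r.a8 + p.a7 * p.a8 * s.σ r.a2 + p.a7 * p.u8 * s.σ r.a1 + s.σ p.a7 *
    p.a8 * r.a1 + p.a8 * p.u8 * r.u2 + p.a8 * r.a3 * s.σ r.a8 + p.a8 * r.a4 * r.a6 + s.σ p.a8 * r.a2 * s.σ
    r.a6 + s.σ p.a8 * r.a3 * r.a8 + p.u2 * r.a8 * r.u8 + p.a1 * s.σ p.a2 * r.a8 * s.σ r.u8 + p.a1 * s.σ p.a6 *
    r.a8 * s.σ r.a8 + p.a1 * p.a8 * s.σ r.a6 * s.σ r.a8 + p.a1 * s.σ p.u8 * s.σ r.a2 * r.a8 + p.a1 * r.a4 *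
    r.a8 * r.u8 + p.a1 * s.σ r.a6 * r.a8 * s.σ r.a8 + s.σ p.a1 * p.a2 * s.σ r.a8 * s.σ r.u8 + s.σ p.a1 * p.a2
    * r.u8 ^ 2 + s.σ p.a1 * p.a6 * r.a8 * r.u8 + s.σ p.a1 * p.a8 * r.a6 * r.u8 + s.σ p.a1 * p.a8 * r.a7 * s.σ
    r.a8 + s.σ p.a1 * s.σ p.a8 * r.a2 * s.σ r.u8 + s.σ p.a1 * s.σ p.a8 * r.a7 * r.a8 + s.σ p.a1 * p.u8 * r.a1
    * s.σ r.u8 + s.σ p.a1 * p.u8 * r.a2 * r.u8 + s.σ p.a1 * s.σ p.u8 * r.a1 * r.u8 + s.σ p.a1 * r.a2 * s.σ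
    r.a8 * s.σ r.u8 + s.σ p.a1 * r.a2 * r.u8 ^ 2 + p.a2 * s.σ p.a2 * r.a8 * r.u8 + p.a2 * p.a8 * r.a4 * s.σ
    r.a8 + p.a2 * s.σ p.a8 * s.σ p.u8 * s.σ r.a1 + p.a2 * s.σ p.a8 * r.a4 * r.a8 + p.a2 * p.u8 ^ 2 * s.σ r.a1
    + s.σ p.a2 * p.a6 * r.a8 ^ 2 + s.σ p.a2 * p.a8 * r.a6 * r.a8 + s.σ p.a2 * p.u8 * r.a2 * r.a8 + s.σ p.a2 *
    s.σ p.u8 * r.a1 * r.a8 + s.σ p.a2 * r.a6 * r.a8 ^ 2 + p.a4 * p.a8 * p.u8 * r.a1 + p.a6 * p.a8 ^ 2 * s.σ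
    r.a2 + s.σ p.a6 * p.a8 * s.σ p.a8 * r.a1 + p.a8 * p.u2 * r.a8 * s.σ r.a8 + p.a8 * s.σ p.u8 * r.a1 * s.σ
    r.a2 + p.a8 ^ 2 * s.σ p.a8 * r.u2 + p.a8 ^ 2 * p.u2 * s.σ r.a8 + p.a8 ^ 2 * s.σ r.a8 * r.u2 + s.σ p.a8 *
    r.a8 ^ 2 * r.u2 + p.u2 * r.a8 ^ 2 * s.σ r.a8 + p.a1 * s.σ p.a1 * r.a8 * s.σ r.a8 * s.σ r.u8 + p.a1 * s.σ
    p.a1 * r.a8 * r.u8 ^ 2 + p.a1 * p.a8 * s.σ r.a1 * s.σ r.a8 * s.σ r.u8 + p.a1 * p.a8 * r.a4 * r.a8 * s.σ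
    r.a8 + p.a1 * p.a8 ^ 2 * r.a4 * s.σ r.a8 + p.a1 * s.σ p.a8 * s.σ p.u8 * s.σ r.a1 * r.a8 + p.a1 * s.σ p.a8
    * s.σ r.a1 * r.a8 * s.σ r.u8 + p.a1 * p.u8 ^ 2 * s.σ r.a1 * r.a8 + p.a1 * r.a4 * r.a8 ^ 2 * s.σ r.a8 + s.σ
    p.a1 * p.a6 * p.a8 * r.a8 * s.σ r.a8 + s.σ p.a1 * p.a6 * s.σ p.a8 * r.a8 ^ 2 + s.σ p.a1 * p.a8 * s.σ p.a8
    * r.a1 * s.σ r.u8 + s.σ p.a1 * p.a8 * s.σ p.a8 * r.a6 * r.a8 + s.σ p.a1 * p.a8 * p.u8 * r.a1 * r.u8 + s.σ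
    p.a1 * p.a8 * p.u8 * r.a2 * s.σ r.a8 + s.σ p.a1 * p.a8 * s.σ p.u8 * r.a1 * s.σ r.a8 + s.σ p.a1 * s.σ p.a8
    * p.u8 * r.a2 * r.a8 + s.σ p.a1 * s.σ p.a8 * s.σ p.u8 * r.a1 * r.a8 + s.σ p.a1 * s.σ p.a8 * r.a6 * r.a8 ^
    2 + s.σ p.a1 * r.a6 * r.a8 ^ 2 * s.σ r.a8 + p.a2 * s.σ p.a2 * p.a8 * r.a8 * s.σ r.a8 + p.a2 * s.σ p.a2 *
    s.σ p.a8 * r.a8 ^ 2 + p.a2 * s.σ p.a2 * r.a8 ^ 2 * s.σ r.a8 + p.a2 * p.a8 * s.σ r.a1 * s.σ r.a8 * r.u8 +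
    p.a2 * s.σ p.a8 * s.σ r.a1 * r.a8 * r.u8 + s.σ p.a2 * p.a8 * p.u8 * r.a1 * r.a8 + s.σ p.a2 * p.a8 ^ 2 *
    r.a2 * s.σ r.a8 + s.σ p.a2 * p.u8 * r.a1 * r.a8 ^ 2 + p.a4 * p.a8 ^ 2 * s.σ p.a8 * r.a1 + p.a6 * p.a8 *
    s.σ r.a1 * r.a8 * s.σ r.a8 + p.a6 * p.a8 ^ 2 * s.σ p.a8 * s.σ r.a1 + p.a6 * s.σ p.a8 * s.σ r.a1 * r.a8 ^ 2
    + p.a8 * s.σ p.a8 * s.σ p.u8 * r.a1 * s.σ r.a1 + p.a8 * s.σ p.a8 * s.σ r.a1 * r.a6 * r.a8 + p.a8 * p.u8 *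
    s.σ r.a1 * r.a2 * s.σ r.a8 + p.a8 * p.u8 ^ 2 * r.a1 * s.σ r.a1 + p.a8 * s.σ p.u8 * r.a1 * s.σ r.a1 * s.σ
    r.a8 + p.a8 ^ 2 * s.σ r.a1 * r.a6 * s.σ r.a8 + s.σ p.a8 * p.u8 * s.σ r.a1 * r.a2 * r.a8 + s.σ p.a8 * s.σ
    p.u8 * r.a1 * s.σ r.a1 * r.a8 + p.a1 * s.σ p.a2 * p.a8 ^ 2 * r.a8 * s.σ r.a8 + p.a1 * s.σ p.a2 * s.σ p.a8
    * r.a8 ^ 3 + p.a1 * p.a8 * s.σ r.a1 * r.a8 * s.σ r.a8 * r.u8 + p.a1 * p.a8 ^ 2 * s.σ r.a1 * s.σ r.a8 *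
    r.u8 + s.σ p.a1 * p.a2 * s.σ p.a8 * r.a8 ^ 2 * s.σ r.a8 + s.σ p.a1 * p.a2 * s.σ p.a8 ^ 2 * r.a8 ^ 2 + s.σ
    p.a1 * p.a2 * r.a8 ^ 2 * s.σ r.a8 ^ 2 + s.σ p.a1 * p.a8 * s.σ p.a8 * p.u8 * r.a1 * r.a8 + s.σ p.a1 * p.a8
    ^ 2 * s.σ p.a8 * r.a1 * r.u8 + s.σ p.a1 * p.a8 ^ 2 * s.σ p.a8 * r.a2 * s.σ r.a8 + s.σ p.a1 * s.σ p.a8 *
    p.u8 * r.a1 * r.a8 ^ 2 + s.σ p.a1 * p.u8 * r.a1 * r.a8 ^ 2 * s.σ r.a8 + s.σ p.a1 * r.a2 * r.a8 ^ 2 * s.σ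
    r.a8 ^ 2 + p.a2 * p.a8 ^ 2 * s.σ p.a8 ^ 2 * s.σ r.a1 + p.a2 * s.σ p.a8 * s.σ r.a1 * r.a8 ^ 2 * s.σ r.a8 +
    p.a2 * s.σ p.a8 ^ 2 * s.σ r.a1 * r.a8 ^ 2 + s.σ p.a2 * p.a8 * s.σ p.a8 * r.a1 * r.a8 ^ 2 + s.σ p.a2 * p.a8
    ^ 2 * s.σ p.a8 * r.a1 * r.a8 + p.a8 * s.σ p.a8 * p.u8 * r.a1 * s.σ r.a1 * r.a8 + p.a8 ^ 2 * s.σ p.a8 * s.σ
    r.a1 * r.a2 * s.σ r.a8 + p.a8 ^ 2 * s.σ r.a1 * r.a2 * s.σ r.a8 ^ 2 + s.σ p.a8 * p.u8 * r.a1 * s.σ r.a1 *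
    r.a8 ^ 2 + p.a1 * s.σ p.a1 * s.σ p.a8 * r.a8 ^ 3 * s.σ r.a8 + p.a1 * s.σ p.a1 * s.σ p.a8 ^ 2 * r.a8 ^ 3 +
    p.a1 * s.σ p.a1 * r.a8 ^ 3 * s.σ r.a8 ^ 2 + p.a1 * p.a8 * s.σ r.a1 * r.a8 ^ 2 * s.σ r.a8 ^ 2 + p.a1 * p.a8
    ^ 2 * s.σ p.a8 ^ 2 * s.σ r.a1 * r.a8 + p.a1 * s.σ p.a8 ^ 2 * s.σ r.a1 * r.a8 ^ 3 + s.σ p.a1 * p.a8 * s.σ
    p.a8 * r.a1 * r.a8 ^ 2 * s.σ r.a8 + s.σ p.a1 * p.a8 * s.σ p.a8 ^ 2 * r.a1 * r.a8 ^ 2 + s.σ p.a1 * p.a8 ^ 2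
    * s.σ p.a8 ^ 2 * r.a1 * r.a8 + p.a8 * s.σ p.a8 ^ 2 * r.a1 * s.σ r.a1 * r.a8 ^ 2 + p.a8 ^ 2 * s.σ p.a8 ^ 2
    * r.a1 * s.σ r.a1 * r.a8 + p.a8 ^ 3 * s.σ p.a8 ^ 2 * r.a1 * s.σ r.a1 := by
  simp [commutatorElement_def] <;> grind

end Cfsg.Agent.Oc
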