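import Mathlib
import Cfsg.Agent.Fus.SpTwoD
import Cfsg.Agent.Inv.SE

/-! Essential subgroups of a finite `2`-group: invariant sets and chains. -/

set_option autoImplicit false
set_option linter.unusedSectionVars false

namespace Cfsg.Agent.Oc

open Subgroup Cfsg.FusionSystem Cfsg.Agent.Fus
open scoped commutatorElement

universe u

variable {Ω : Type u} [Group Ω] {E : Subgroup Ω}

/-- The Frattini subgroup. -/
abbrev Ph (E : Subgroup Ω) : Subgroup Ω := ⁅E, E⁆ ⊔ powerClosure 2 1 E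

theorem sq_Ph {x : Ω} (hx : x ∈ E) : x * x ∈ Ph E :=
  mem_sup_right (subset_closure ⟨x, hx, by simp [sq]⟩)

theorem cm_Ph {x y : Ω} (hx : x ∈ E) (hy : y ∈ E) : ⁅x, y⁆ ∈ Ph E :=
  mem_sup_left (commutator_mem_commutator hx hy)

theorem cm_mem {x y : Ω} (hx : x ∈ E) (hy : y ∈ E) : ⁅x, y⁆ ∈ E :=
  mul_mem (mul_mem (mul_mem hx hy) (inv_mem hx)) (inv_mem hy)

theorem Ph_le_of {M : Subgroup Ω} (h1 : ∀ x ∈ E, ∀ y ∈ E, ⁅x, y⁆ ∈ M) (h2 : ∀ x ∈ E, x * x ∈ M) : Ph E ≤ M :=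
  sup_le (commutator_le.2 h1) ((closure_le _).2 (by rintro _ ⟨x, hx, rfl⟩; simpa [sq] using h2 x hx))

theorem Ph_le : Ph E ≤ E := Ph_le_of (fun _ hx _ hy => cm_mem hx hy) fun _ hx => mul_mem hx hx

theorem Ph_mono {E' : Subgroup Ω} (h : E ≤ E') : Ph E ≤ Ph E' :=
  Ph_le_of (fun _ hx _ hy => cm_Ph (h hx) (h hy)) fun _ hx => sq_Ph (h hx)

theorem invA_Ph (A : Subgroup (MulAut E)) : InvA A (Ph E) :=
  ((invA_top A).commutator (invA_top A)).sup ((invA_top A).powerClosure 2 1)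

/-- A word in two letters. -/
def Wd (w : ∀ (G : Type u) [Group G], G → G → G) : Prop :=
  ∀ (G H : Type u) [Group G] [Group H] (f : G →* H) (x y : G), f (w G x y) = w H (f x) (f y)

/-- `X` is a subset of `E` invariant under `A`. -/
structure Iv (A : Subgroup (MulAut E)) (X : Set Ω) : Prop where
  le : ∀ x ∈ X, x ∈ E
  mp : ∀ α ∈ A, ∀ x ∈ X, totA α x ∈ X

variable {A : Subgroup (MulAut E)} {X Y D : Set Ω} {w : ∀ (G : Type u) [Group G], G → G → G}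

theorem Wd.mem (hw : Wd w) {x y : Ω} (hx : x ∈ E) (hy : y ∈ E) : w Ω x y ∈ E :=
  hw E Ω E.subtype ⟨x, hx⟩ ⟨y, hy⟩ ▸ (w E ⟨x, hx⟩ ⟨y, hy⟩).2

theorem Wd.tot (hw : Wd w) (α : MulAut E) {x y : Ω} (hx : x ∈ E) (hy : y ∈ E) :
    totA α (w Ω x y) = w Ω (totA α x) (totA α y) := by
  have e := hw E Ω E.subtype ⟨x, hx⟩ ⟨y, hy⟩
  have e' := hw E Ω (E.subtype.comp α.toMonoidHom) ⟨x, hx⟩ ⟨y, hy⟩
  rw [totA_apply _ hx, totA_apply _ hy]
  exact (congrArg _ e.symm).trans ((totA_coe α _).trans e')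

namespace Iv

theorem top (A : Subgroup (MulAut E)) : Iv A (E : Set Ω) := ⟨fun _ h => h, fun α _ _ h => totA_mem α h⟩

theorem one (A : Subgroup (MulAut E)) : Iv A {1} :=
  ⟨fun _ h => h ▸ one_mem E, fun α _ _ h => h ▸ (mulOn_totA α).map_one⟩

theorem anti {B : Subgroup (MulAut E)} (h : Iv A X) (hB : B ≤ A) : Iv B X := ⟨h.le, fun α hα => h.mp α (hB hα)⟩

theorem of_invA {N : Subgroup Ω} (h : InvA A N) : Iv A (N : Set Ω) := ⟨fun _ hx => h.le hx, fun _ hα _ => h.mem hα⟩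

theorem invA {N : Subgroup Ω} (h : Iv A (N : Set Ω)) : InvA A N := ⟨fun x hx => h.le x hx, h.mp⟩

theorem congr (h : Iv A X) (e : ∀ x, x ∈ Y ↔ x ∈ X) : Iv A Y := (Set.ext e : Y = X) ▸ h

theorem back (h : Iv A X) {α : MulAut E} (hα : α ∈ A) {x : Ω} (hx : x ∈ E) (k : totA α x ∈ X) : x ∈ X :=
  totA_inv_totA α hx ▸ h.mp _ (inv_mem hα) _ k

theorem inter (h : Iv A X) (h' : Iv A Y) : Iv A {c | c ∈ X ∧ c ∈ Y} :=
  ⟨fun x hx => h.le x hx.1, fun α hα x hx => ⟨h.mp α hα x hx.1, h'.mp α hα x hx.2⟩⟩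

theorem diff (h : Iv A X) (h' : Iv A Y) : Iv A {c | c ∈ X ∧ c ∉ Y} :=
  ⟨fun x hx => h.le x hx.1, fun α hα x hx => ⟨h.mp α hα x hx.1, fun k => hx.2 (h'.back hα (h.le x hx.1) k)⟩⟩

theorem all (h : Iv A X) (hY : Iv A Y) (hD : Iv A D) (w : ∀ (G : Type u) [Group G], G → G → G) (hw : Wd w) :
    Iv A {c | c ∈ X ∧ ∀ e ∈ Y, w Ω c e ∈ D} :=
  ⟨fun x hx => h.le x hx.1, fun α hα x hx => ⟨h.mp α hα x hx.1, fun e he => by
    have h1 := hY.mp _ (inv_mem hα) e he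
    rw [← totA_totA_inv α (hY.le e he), ← hw.tot α (h.le x hx.1) (hY.le _ h1)]
    exact hD.mp α hα _ (hx.2 _ h1)⟩⟩

theorem ex (h : Iv A X) (hY : Iv A Y) (hD : Iv A D) (w : ∀ (G : Type u) [Group G], G → G → G) (hw : Wd w) :
    Iv A {c | c ∈ X ∧ ∃ e ∈ Y, w Ω c e ∈ D} :=
  ⟨fun x hx => h.le x hx.1, fun α hα x ⟨hx, e, he, k⟩ => ⟨h.mp α hα x hx, _, hY.mp α hα e he, by
    rw [← hw.tot α (h.le x hx) (hY.le e he)]; exact hD.mp α hα _ k⟩⟩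

theorem all1 (h : Iv A X) (hY : Iv A Y) (w : ∀ (G : Type u) [Group G], G → G → G) (hw : Wd w) :
    Iv A {c | c ∈ X ∧ ∀ e ∈ Y, w Ω c e = 1} := h.all hY (one A) w hw

theorem pre (h : Iv A X) (hD : Iv A D) (w : ∀ (G : Type u) [Group G], G → G → G) (hw : Wd w) :
    Iv A {c | c ∈ X ∧ w Ω c c ∈ D} :=
  ⟨fun x hx => h.le x hx.1, fun α hα x hx => ⟨h.mp α hα x hx.1, by
    rw [← hw.tot α (h.le x hx.1) (h.le x hx.1)]; exact hD.mp α hα _ hx.2⟩⟩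

theorem pre1 (h : Iv A X) (w : ∀ (G : Type u) [Group G], G → G → G) (hw : Wd w) :
    Iv A {c | c ∈ X ∧ w Ω c c = 1} := h.pre (one A) w hw

theorem img (h : Iv A X) (hY : Iv A Y) (w : ∀ (G : Type u) [Group G], G → G → G) (hw : Wd w) :
    Iv A {c | ∃ x ∈ X, ∃ y ∈ Y, c = w Ω x y} :=
  ⟨by rintro _ ⟨x, hx, y, hy, rfl⟩; exact hw.mem (h.le x hx) (hY.le y hy), by
    rintro α hα _ ⟨x, hx, y, hy, rfl⟩
    exact ⟨_, h.mp α hα x hx, _, hY.mp α hα y hy, hw.tot α (h.le x hx) (hY.le y hy)⟩⟩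

/-- The elements of order at most two. -/
theorem inv (A : Subgroup (MulAut E)) : Iv A {c | c ∈ E ∧ c * c = 1} :=
  (top A).pre1 (fun _ _ x y => x * y) fun _ _ _ _ f x y => map_mul f x y

theorem wd_cm : Wd.{u} fun _ _ x y => ⁅x, y⁆ := fun _ _ _ _ f x y => map_commutatorElement f x y

/-- The elements of `X` that commute with `Y`. -/
theorem cent (h : Iv A X) (hY : Iv A Y) : Iv A {c | c ∈ X ∧ ∀ e ∈ Y, ⁅c, e⁆ = 1} := h.all1 hY _ wd_cm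

/-- The elements of `X` whose commutators with `Y` lie in `D`. -/
theorem cmm (h : Iv A X) (hY : Iv A Y) (hD : Iv A D) : Iv A {c | c ∈ X ∧ ∀ e ∈ Y, ⁅c, e⁆ ∈ D} :=
  h.all hY hD _ wd_cm

/-- The elements of `X` whose commutators with `Y` have order at most two. -/
theorem cm2 (h : Iv A X) (hY : Iv A Y) : Iv A {c | c ∈ X ∧ ∀ e ∈ Y, ⁅c, e⁆ * ⁅c, e⁆ = 1} :=
  h.all1 hY (fun _ _ x y => ⁅x, y⁆ * ⁅x, y⁆) fun _ _ _ _ f x y => by simp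

/-- The elements of `X` with few commutators. -/
theorem few (h : Iv A X) (n : ℕ) : Iv A {c | c ∈ X ∧ {z | ∃ e ∈ E, z = ⁅c, e⁆}.ncard ≤ n} :=
  ⟨fun x hx => h.le x hx.1, fun α hα x hx => ⟨h.mp α hα x hx.1, by
    have hE := h.le x hx.1
    have : {z | ∃ e ∈ E, z = ⁅totA α x, e⁆} = totA α '' {z | ∃ e ∈ E, z = ⁅x, e⁆} := Set.ext fun z =>
      ⟨by
        rintro ⟨e, he, rfl⟩
        exact ⟨_, ⟨_, totA_mem α⁻¹ he, rfl⟩, by
          rw [wd_cm.tot α hE (totA_mem _ he), totA_totA_inv α he]⟩, by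
        rintro ⟨_, ⟨e, he, rfl⟩, rfl⟩
        exact ⟨_, totA_mem α he, wd_cm.tot α hE he⟩⟩
    rw [this, Set.InjOn.ncard_image]
    · exact hx.2
    · rintro _ ⟨e, he, rfl⟩ _ ⟨e', he', rfl⟩ k
      exact totA_inj α (cm_mem hE he) (cm_mem hE he') k⟩⟩

/-- The elements of `X` whose centralizer in `Y` is not commutative. -/
theorem nab (h : Iv A X) (hY : Iv A Y) :
    Iv A {c | c ∈ X ∧ ∃ e ∈ Y, ∃ e' ∈ Y, ⁅c, e⁆ = 1 ∧ ⁅c, e'⁆ = 1 ∧ ⁅e, e'⁆ ≠ 1} :=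
  ⟨fun x hx => h.le x hx.1, fun α hα x ⟨hx, e, he, e', he', k1, k2, k3⟩ =>
    ⟨h.mp α hα x hx, _, hY.mp α hα e he, _, hY.mp α hα e' he',
      by rw [← wd_cm.tot α (h.le x hx) (hY.le e he), k1, (mulOn_totA α).map_one],
      by rw [← wd_cm.tot α (h.le x hx) (hY.le e' he'), k2, (mulOn_totA α).map_one],
      by rw [← wd_cm.tot α (hY.le e he) (hY.le e' he')]
         exact fun k => k3 ((totA_eq_one_iff α (cm_mem (hY.le e he) (hY.le e' he'))).1 k)⟩⟩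

theorem cl (h : Iv A X) : InvA A (closure X ⊔ Ph E) :=
  (invA_closure ((closure_le _).2 h.le) fun α hα x hx => subset_closure (h.mp α hα x hx)).sup (invA_Ph A)

end Iv

/-- `E` is essential in some saturated fusion system. -/
def Es (E : Subgroup Ω) : Prop := ∃ F : FusionSystem (⊤ : Subgroup Ω), F.IsSaturated 2 ∧ F.IsEssential 2 E

variable [Finite Ω]

theorem step_cl {g : Ω} (hg : g ∈ normalizer (E : Set Ω)) {N : Subgroup Ω} (hN : InvA (⊤ : Subgroup (MulAut E)) N) (hΦ : Ph E ≤ N)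
    (hX : ∀ x ∈ X, x ∈ E) (h : ∀ x ∈ X, ⁅g, x⁆ ∈ N) : ∀ x ∈ closure X ⊔ Ph E, x⁻¹ * (g * x * g⁻¹) ∈ N := by
  have cj : ∀ x ∈ E, ∀ y ∈ N, x * y * x⁻¹ ∈ N := fun x hx y hy =>
    totA_cAut (le_normalizer hx) (hN.le hy) ▸ hN.mem (mem_top _) hy
  let M : Subgroup Ω :=
    { carrier := {x | x ∈ E ∧ x⁻¹ * (g * x * g⁻¹) ∈ N}
      one_mem' := ⟨one_mem _, by simp⟩
      mul_mem' := fun {x y} hx hy => ⟨mul_mem hx.1 hy.1, by
        have := mul_mem (cj _ (inv_mem hy.1) _ hx.2) hy.2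
        convert this using 1; group⟩
      inv_mem' := fun {x} hx => ⟨inv_mem hx.1, by
        have := inv_mem (cj _ hx.1 _ hx.2)
        convert this using 1; group⟩ }
  have : closure X ⊔ Ph E ≤ M := sup_le ((closure_le _).2 fun x hx => ⟨hX x hx, by
    have := cj _ (inv_mem (hX x hx)) _ (h x hx)
    convert this using 1; rw [commutatorElement_def]; group⟩) fun x hx => ⟨Ph_le hx,
      hΦ (mul_mem (inv_mem hx) (totA_cAut hg (Ph_le hx) ▸ (invA_Ph ⊤).mem (mem_top _) hx))⟩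
  exact fun x hx => (this hx).2

theorem norm_of_cm {g : Ω} (h : ∀ x ∈ E, ⁅g, x⁆ ∈ E) : g ∈ normalizer (E : Set Ω) :=
  mem_normalizer_fintype fun x hx => by
    simpa [commutatorElement_def] using mul_mem (h x hx) hx

namespace Es

variable (hΩ : IsPGroup 2 Ω) (h : Es E)
include hΩ h

theorem map (e : Ω ≃* Ω) : Es (E.map e.toMonoidHom) := by
  obtain ⟨F, h1, h2⟩ := h
  obtain ⟨F', h3⟩ := SU.U2.exists_via F e
  exact ⟨F', h3.isSaturated h1 (hΩ.to_subgroup _), img_eq_map e.toMonoidHom E ▸ h3.isEssential h2⟩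

/-- Conjugation. -/
theorem cj (t : Ω) : ∃ E' : Subgroup Ω, Es E' ∧ ∀ x, t * x * t⁻¹ ∈ E' ↔ x ∈ E :=
  ⟨_, h.map hΩ (MulAut.conj t), fun x => mem_map_iff_mem (f := (MulAut.conj t).toMonoidHom) (MulAut.conj t).injective⟩

theorem exists_notMem : ∃ g, g ∉ E ∧ ∀ x ∈ E, ⁅g, x⁆ ∈ E := by
  obtain ⟨F, h1, h2⟩ := h
  obtain ⟨g, hg, h3⟩ := h2.exists_notMem h1 (hΩ.to_subgroup _)
  exact ⟨g, h3, fun x hx => mul_mem (conj_mem_of_mem_normalizerIn hg hx) (inv_mem hx)⟩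

theorem ch3 (hX : Iv (⊤ : Subgroup (MulAut E)) X) (hY : Iv (⊤ : Subgroup (MulAut E)) Y)
    (hD : Iv (⊤ : Subgroup (MulAut E)) D) {g : Ω} (h0 : ∀ x ∈ E, ⁅g, x⁆ ∈ X) (h1 : ∀ x ∈ X, ⁅g, x⁆ ∈ Y)
    (h2 : ∀ x ∈ Y, ⁅g, x⁆ ∈ D) (h3 : ∀ x ∈ D, ⁅g, x⁆ ∈ Ph E) : g ∈ E := by
  obtain ⟨F, -, hF⟩ := h
  have hg := norm_of_cm fun x hx => hX.le _ (h0 x hx)
  have i2 : Iv (⊤ : Subgroup (MulAut E)) (Y ∪ D) := ⟨fun x hx => hx.elim (hY.le x) (hD.le x),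
    fun α hα x hx => hx.imp (hY.mp α hα x) (hD.mp α hα x)⟩
  have i1 : Iv (⊤ : Subgroup (MulAut E)) (X ∪ (Y ∪ D)) := ⟨fun x hx => hx.elim (hX.le x) (i2.le x),
    fun α hα x hx => hx.imp (hX.mp α hα x) (i2.mp α hα x)⟩
  let C : ℕ → Subgroup Ω := fun i => if i = 0 then E else if i = 1 then closure (X ∪ (Y ∪ D)) ⊔ Ph E else
    if i = 2 then closure (Y ∪ D) ⊔ Ph E else if i = 3 then closure D ⊔ Ph E else Ph E
  have s : ∀ {Z : Set Ω} {x : Ω}, x ∈ Z → x ∈ closure Z ⊔ Ph E := fun hx => mem_sup_left (subset_closure hx)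
  refine hF.mem_of_chain (hΩ.to_subgroup _) C 4 rfl le_rfl (fun i hi => ?_) (fun i hi => ?_)
    ⟨mem_top g, hg⟩ fun i hi => ?_
  · interval_cases i
    exacts [i1.cl.le, sup_le_sup_right (Subgroup.closure_mono Set.subset_union_right) _,
      sup_le_sup_right (Subgroup.closure_mono Set.subset_union_right) _, le_sup_right]
  · interval_cases i
    exacts [invA_top _, i1.cl.anti le_top, i2.cl.anti le_top, hD.cl.anti le_top, invA_Ph _]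
  · interval_cases i
    · exact fun x hx => step_cl hg i1.cl le_sup_right (fun _ h => h) (fun x hx => s (.inl (h0 x hx))) x (s hx)
    · exact step_cl hg i2.cl le_sup_right i1.le fun x hx => hx.elim (fun k => s (.inl (h1 x k))) fun k =>
        k.elim (fun k => s (.inr (h2 x k))) fun k => mem_sup_right (h3 x k)
    · exact step_cl hg hD.cl le_sup_right i2.le fun x hx => hx.elim (fun k => s (h2 x k)) fun k =>
        mem_sup_right (h3 x k)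
    · exact step_cl hg (invA_Ph _) le_rfl hD.le h3

theorem ch2 (hX : Iv (⊤ : Subgroup (MulAut E)) X) (hY : Iv (⊤ : Subgroup (MulAut E)) Y) {g : Ω}
    (h0 : ∀ x ∈ E, ⁅g, x⁆ ∈ X) (h1 : ∀ x ∈ X, ⁅g, x⁆ ∈ Y) (h2 : ∀ x ∈ Y, ⁅g, x⁆ ∈ Ph E) : g ∈ E :=
  h.ch3 hΩ (Iv.top _) hX hY (fun x hx => hX.le _ (h0 x hx)) h0 h1 h2

theorem ch1 (hX : Iv (⊤ : Subgroup (MulAut E)) X) {g : Ω} (h0 : ∀ x ∈ E, ⁅g, x⁆ ∈ X)
    (h1 : ∀ x ∈ X, ⁅g, x⁆ ∈ Ph E) : g ∈ E :=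
  h.ch2 hΩ (Iv.top _) hX (fun x hx => hX.le _ (h0 x hx)) h0 h1

theorem ch0 {g : Ω} (h0 : ∀ x ∈ E, ⁅g, x⁆ ∈ Ph E) : g ∈ E :=
  h.ch1 hΩ (Iv.top _) (fun x hx => Ph_le (h0 x hx)) h0

theorem cent {g : Ω} (h0 : ∀ x ∈ E, ⁅g, x⁆ = 1) : g ∈ E := h.ch0 hΩ fun x hx => h0 x hx ▸ one_mem _

/-- On a commutative essential subgroup all involutions have the same number of fixed points. -/
theorem card_fix (hab : ∀ x ∈ E, ∀ y ∈ E, ⁅x, y⁆ = 1) {a b : Ω} (ha : ∀ x ∈ E, ⁅a, x⁆ ∈ E) (ha' : a ∉ E)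
    (ha2 : a * a ∈ E) (hb : ∀ x ∈ E, ⁅b, x⁆ ∈ E) (hb' : b ∉ E) (hb2 : b * b ∈ E) {M N : Subgroup Ω}
    (hM : ∀ x, x ∈ M ↔ x ∈ E ∧ ⁅a, x⁆ = 1) (hN : ∀ x, x ∈ N ↔ x ∈ E ∧ ⁅b, x⁆ = 1) : Nat.card M = Nat.card N := by
  obtain ⟨F, -, hF⟩ := id h
  obtain ⟨hc, -, hn, H, hH⟩ := id hF
  let π := QuotientGroup.mk' ((Inn E).subgroupOf (F.autGroup E))
  have hI : ∀ α ∈ Inn E, α = 1 := fun α hα => by
    obtain ⟨g, hg, e⟩ := mem_inn_iff.1 hα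
    exact MulEquiv.ext fun x => Subtype.ext ((e x).trans (mul_inv_eq_iff_eq_mul.2
      (commutatorElement_eq_one_iff_mul_comm.1 (hab g hg x x.2))))
  have hπ : Function.Injective π := (injective_iff_map_eq_one _).2 fun α k =>
    Subtype.ext (hI _ ((QuotientGroup.eq_one_iff α).1 k))
  have m : ∀ {a : Ω}, (∀ x ∈ E, ⁅a, x⁆ ∈ E) → cAut E a ∈ F.autGroup E := fun ha =>
    F.cAut_mem_autGroup le_top ⟨mem_top _, norm_of_cm ha⟩
  have o : ∀ {a : Ω} (ha : ∀ x ∈ E, ⁅a, x⁆ ∈ E), a ∉ E → a * a ∈ E → orderOf (π ⟨_, m ha⟩) = 2 :=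
    fun {a} ha h1 h2 => by
      rw [orderOf_injective π hπ]
      refine orderOf_eq_prime (Subtype.ext ?_) fun k => h1 (h.cent hΩ fun x hx => ?_)
      · rw [sq, coe_mul, ← cAut_mul (norm_of_cm ha) (norm_of_cm ha)]; exact hI _ (cAut_mem_inn h2)
      · have := totA_cAut (norm_of_cm ha) hx
        rw [show cAut E a = 1 from congrArg Subtype.val k, totA_one hx] at this
        rw [commutatorElement_def, ← this, mul_inv_cancel]
  obtain ⟨c, hc⟩ := isConj_iff.1 ((Inv.SE.isStronglyEmbedded_iff_isStronglyPEmbedded.2 hH).isConj_of_involutions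
    (o ha ha' ha2) (o hb hb' hb2))
  obtain ⟨γ, rfl⟩ := QuotientGroup.mk'_surjective _ c
  have e : γ.1 * cAut E a * γ.1⁻¹ = cAut E b := congrArg Subtype.val (hπ (by rw [map_mul, map_mul, map_inv]; exact hc) :
    γ * ⟨_, m ha⟩ * γ⁻¹ = ⟨_, m hb⟩)
  have k : ∀ {a b : Ω} {γ : MulAut E}, (∀ x ∈ E, ⁅a, x⁆ ∈ E) → (∀ x ∈ E, ⁅b, x⁆ ∈ E) →
      γ * cAut E a * γ⁻¹ = cAut E b → ∀ {M N : Subgroup Ω}, (∀ x, x ∈ M ↔ x ∈ E ∧ ⁅a, x⁆ = 1) →
      (∀ x, x ∈ N ↔ x ∈ E ∧ ⁅b, x⁆ = 1) → Nat.card M ≤ Nat.card N := fun {a b γ} ha hb e M N hM hN => by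
    refine Nat.card_le_card_of_injective (fun x : M => (⟨totA γ x, (hN _).2 ⟨totA_mem γ ((hM _).1 x.2).1, ?_⟩⟩ : N))
      fun x y k => Subtype.ext (totA_inj γ ((hM _).1 x.2).1 ((hM _).1 y.2).1 (congrArg Subtype.val k))
    obtain ⟨h1, h2⟩ := (hM _).1 x.2
    rw [commutatorElement_def, mul_inv_eq_one] at h2 ⊢
    rw [← totA_cAut (norm_of_cm hb) (totA_mem γ h1), ← e, ← totA_mul _ _ h1, inv_mul_cancel_right,
      totA_mul _ _ h1, totA_cAut (norm_of_cm ha) h1, h2]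
  exact le_antisymm (k ha hb e hM hN) (k hb ha (γ := γ.1⁻¹) (by rw [← e]; group) hN hM)

end Es

end Cfsg.Agent.Oc
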