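import Mathlib
import Cfsg.Agent.Oc.Cm
import Cfsg.Agent.Oc.Kit
import Cfsg.Agent.Og.AutA
import Cfsg.Agent.Og.B

/-! Coordinate subgroups, involutions and generation steps. -/

set_option autoImplicit false
set_option linter.unusedSectionVars false

namespace Cfsg.Agent.Oc

open Cfsg.Agent.Og SG Subgroup
open scoped commutatorElement

variable {K : Type*} [Field K] [CharP K 2] {s : Sg K}

variable (s) in
/-- The subgroup `W = V₄ U₅ V₆`. -/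
def Ws : Subgroup (SG s) where
  carrier := {p | p.a1 = 0 ∧ p.a2 = 0 ∧ p.u2 = 0 ∧ p.a3 = 0 ∧ p.a4 = 0 ∧ p.a6 = 0 ∧ p.a7 = 0 ∧ p.a8 = 0 ∧ p.u8 = 0}
  mul_mem' := fun {p r} hp hr => by simp_all
  one_mem' := by simp
  inv_mem' := fun {p} hp => by simp_all

@[simp] theorem mem_Ws {p : SG s} : p ∈ Ws s ↔ p.a1 = 0 ∧ p.a2 = 0 ∧ p.u2 = 0 ∧ p.a3 = 0 ∧ p.a4 = 0 ∧ p.a6 = 0 ∧ p.a7 = 0 ∧ p.a8 = 0 ∧ p.u8 = 0 := Iff.rfl

instance nWs : (Ws s).Normal := ⟨fun a ha t => by simp_all <;> grind⟩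

variable (s) in
/-- The subgroup `U₃ V₄ U₅ V₆`. -/
def Z4s : Subgroup (SG s) where
  carrier := {p | p.a1 = 0 ∧ p.a2 = 0 ∧ p.u2 = 0 ∧ p.a4 = 0 ∧ p.a6 = 0 ∧ p.a7 = 0 ∧ p.a8 = 0 ∧ p.u8 = 0}
  mul_mem' := fun {p r} hp hr => by simp_all
  one_mem' := by simp
  inv_mem' := fun {p} hp => by simp_all

@[simp] theorem mem_Z4s {p : SG s} : p ∈ Z4s s ↔ p.a1 = 0 ∧ p.a2 = 0 ∧ p.u2 = 0 ∧ p.a4 = 0 ∧ p.a6 = 0 ∧ p.a7 = 0 ∧ p.a8 = 0 ∧ p.u8 = 0 := Iff.rfl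

instance nZ4s : (Z4s s).Normal := ⟨fun a ha t => by simp_all <;> grind⟩

variable (s) in
/-- The subgroup `U₃ V₄ U₅ V₆ U₇`. -/
def M1s : Subgroup (SG s) where
  carrier := {p | p.a1 = 0 ∧ p.a2 = 0 ∧ p.u2 = 0 ∧ p.a4 = 0 ∧ p.a6 = 0 ∧ p.a8 = 0 ∧ p.u8 = 0}
  mul_mem' := fun {p r} hp hr => by simp_all
  one_mem' := by simp
  inv_mem' := fun {p} hp => by simp_all

@[simp] theorem mem_M1s {p : SG s} : p ∈ M1s s ↔ p.a1 = 0 ∧ p.a2 = 0 ∧ p.u2 = 0 ∧ p.a4 = 0 ∧ p.a6 = 0 ∧ p.a8 = 0 ∧ p.u8 = 0 := Iff.rfl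

instance nM1s : (M1s s).Normal := ⟨fun a ha t => by simp_all <;> grind⟩

variable (s) in
/-- The subgroup `V U₇`. -/
def Z5s : Subgroup (SG s) where
  carrier := {p | p.a1 = 0 ∧ p.a2 = 0 ∧ p.a4 = 0 ∧ p.a6 = 0 ∧ p.a8 = 0 ∧ p.u8 = 0}
  mul_mem' := fun {p r} hp hr => by simp_all
  one_mem' := by simp
  inv_mem' := fun {p} hp => by simp_all

@[simp] theorem mem_Z5s {p : SG s} : p ∈ Z5s s ↔ p.a1 = 0 ∧ p.a2 = 0 ∧ p.a4 = 0 ∧ p.a6 = 0 ∧ p.a8 = 0 ∧ p.u8 = 0 := Iff.rfl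

instance nZ5s : (Z5s s).Normal := ⟨fun a ha t => by simp_all <;> grind⟩

variable (s) in
/-- The subgroup `Y U₇`. -/
def P7s : Subgroup (SG s) where
  carrier := {p | p.a1 = 0 ∧ p.a2 = 0 ∧ p.a6 = 0 ∧ p.a8 = 0 ∧ p.u8 = 0}
  mul_mem' := fun {p r} hp hr => by simp_all
  one_mem' := by simp
  inv_mem' := fun {p} hp => by simp_all

@[simp] theorem mem_P7s {p : SG s} : p ∈ P7s s ↔ p.a1 = 0 ∧ p.a2 = 0 ∧ p.a6 = 0 ∧ p.a8 = 0 ∧ p.u8 = 0 := Iff.rfl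

instance nP7s : (P7s s).Normal := ⟨fun a ha t => by simp_all <;> grind⟩

variable (s) in
/-- The subgroup `Y U₆ U₇`. -/
def Z6s : Subgroup (SG s) where
  carrier := {p | p.a1 = 0 ∧ p.a2 = 0 ∧ p.a8 = 0 ∧ p.u8 = 0}
  mul_mem' := fun {p r} hp hr => by simp_all
  one_mem' := by simp
  inv_mem' := fun {p} hp => by simp_all

@[simp] theorem mem_Z6s {p : SG s} : p ∈ Z6s s ↔ p.a1 = 0 ∧ p.a2 = 0 ∧ p.a8 = 0 ∧ p.u8 = 0 := Iff.rfl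

instance nZ6s : (Z6s s).Normal := ⟨fun a ha t => by simp_all <;> grind⟩

variable (s) in
/-- The subgroup `Y U₆ U₇ V₈`. -/
def R1s : Subgroup (SG s) where
  carrier := {p | p.a1 = 0 ∧ p.a2 = 0 ∧ p.a8 = 0}
  mul_mem' := fun {p r} hp hr => by simp_all
  one_mem' := by simp
  inv_mem' := fun {p} hp => by simp_all

@[simp] theorem mem_R1s {p : SG s} : p ∈ R1s s ↔ p.a1 = 0 ∧ p.a2 = 0 ∧ p.a8 = 0 := Iff.rfl

instance nR1s : (R1s s).Normal := ⟨fun a ha t => by simp_all <;> grind⟩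

variable (s) in
/-- The subgroup `Q ∩ R`. -/
def QRs : Subgroup (SG s) where
  carrier := {p | p.a1 = 0 ∧ p.a8 = 0 ∧ p.u8 = 0}
  mul_mem' := fun {p r} hp hr => by simp_all
  one_mem' := by simp
  inv_mem' := fun {p} hp => by simp_all

@[simp] theorem mem_QRs {p : SG s} : p ∈ QRs s ↔ p.a1 = 0 ∧ p.a8 = 0 ∧ p.u8 = 0 := Iff.rfl

instance nQRs : (QRs s).Normal := ⟨fun a ha t => by simp_all <;> grind⟩

variable (s) in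
/-- The subgroup `(Q ∩ R) V₈`. -/
def Z7s : Subgroup (SG s) where
  carrier := {p | p.a1 = 0 ∧ p.a8 = 0}
  mul_mem' := fun {p r} hp hr => by simp_all
  one_mem' := by simp
  inv_mem' := fun {p} hp => by simp_all

@[simp] theorem mem_Z7s {p : SG s} : p ∈ Z7s s ↔ p.a1 = 0 ∧ p.a8 = 0 := Iff.rfl

instance nZ7s : (Z7s s).Normal := ⟨fun a ha t => by simp_all <;> grind⟩

variable (s) in
/-- The subgroup `Q V₈`. -/
def Q8s : Subgroup (SG s) where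
  carrier := {p | p.a8 = 0}
  mul_mem' := fun {p r} hp hr => by simp_all
  one_mem' := by simp
  inv_mem' := fun {p} hp => by simp_all

@[simp] theorem mem_Q8s {p : SG s} : p ∈ Q8s s ↔ p.a8 = 0 := Iff.rfl

instance nQ8s : (Q8s s).Normal := ⟨fun a ha t => by simp_all <;> grind⟩

variable (s) in
/-- The subgroup `U₁ V₂ U₃ V₄ U₅`. -/
def Mns : Subgroup (SG s) where
  carrier := {p | p.a2 = 0 ∧ p.a4 = 0 ∧ p.a6 = 0 ∧ p.u6 = 0 ∧ p.a7 = 0 ∧ p.a8 = 0 ∧ p.u8 = 0}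
  mul_mem' := fun {p r} hp hr => by simp_all
  one_mem' := by simp
  inv_mem' := fun {p} hp => by simp_all

@[simp] theorem mem_Mns {p : SG s} : p ∈ Mns s ↔ p.a2 = 0 ∧ p.a4 = 0 ∧ p.a6 = 0 ∧ p.u6 = 0 ∧ p.a7 = 0 ∧ p.a8 = 0 ∧ p.u8 = 0 := Iff.rfl

variable (s) in
/-- The subgroup `Y U₁`. -/
def P1s : Subgroup (SG s) where
  carrier := {p | p.a2 = 0 ∧ p.a6 = 0 ∧ p.a7 = 0 ∧ p.a8 = 0 ∧ p.u8 = 0}
  mul_mem' := fun {p r} hp hr => by simp_all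
  one_mem' := by simp
  inv_mem' := fun {p} hp => by simp_all

@[simp] theorem mem_P1s {p : SG s} : p ∈ P1s s ↔ p.a2 = 0 ∧ p.a6 = 0 ∧ p.a7 = 0 ∧ p.a8 = 0 ∧ p.u8 = 0 := Iff.rfl

instance nQs : (Qs s).Normal := ⟨fun a ha t => Qs_conj t a ha⟩
instance nRs : (Rs s).Normal := ⟨fun a ha t => Rs_conj t a ha⟩
instance nYs : (Ys s).Normal := ⟨fun a ha t => Ys_conj t a ha⟩
instance nVs : (Vs s).Normal := ⟨fun a ha t => Vs_conj t a ha⟩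
instance nZs : (Zs s).Normal := ⟨fun a ha t => Zs_conj t a ha⟩

section
variable {G : Type*} [Group G] {E E' N : Subgroup G} {t : G}

theorem le_cj [hN : N.Normal] (h : ∀ x, t * x * t⁻¹ ∈ E' ↔ x ∈ E) : N ≤ E' ↔ N ≤ E :=
  ⟨fun k x hx => (h x).1 (k (hN.conj_mem x hx t)), fun k x hx => by
    have := (h _).2 (k (hN.conj_mem x hx t⁻¹))
    simpa [mul_assoc] using this⟩

theorem of_cj (h : ∀ x, t * x * t⁻¹ ∈ E' ↔ x ∈ E) {y : G} (hy : y ∈ E') : ∃ x ∈ E, y = t * x * t⁻¹ :=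
  ⟨t⁻¹ * y * t, (h _).1 (by simpa [mul_assoc] using hy), by group⟩

theorem cj_le [hN : N.Normal] (h : ∀ x, t * x * t⁻¹ ∈ E' ↔ x ∈ E) : E' ≤ N ↔ E ≤ N :=
  ⟨fun k x hx => by simpa [mul_assoc] using hN.conj_mem _ (k ((h x).2 hx)) t⁻¹, fun k y hy => by
    obtain ⟨x, hx, rfl⟩ := of_cj h hy
    exact hN.conj_mem x (k hx) t⟩

theorem cm_inv (x y : G) : ⁅x, y⁆ = ⁅y, x⁆⁻¹ := (commutatorElement_inv y x).symm

theorem cm_swap {x y : G} (h : ⁅x, y⁆ ∈ N) : ⁅y, x⁆ ∈ N := cm_inv y x ▸ inv_mem h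

theorem cm_one_swap {x y : G} (h : ⁅x, y⁆ = 1) : ⁅y, x⁆ = 1 := by rw [cm_inv, h, inv_one]

end

/-! ### Involutions -/

theorem σ_mul_eq_zero {a : K} : a * s.σ a = 0 ↔ a = 0 := by simp

section
variable {p : SG s} (h : p * p = 1)
include h

theorem inv_a8 : p.a8 = 0 := by
  have := congrArg SG.u8 h
  simp at this
  exact (σ_mul_eq_zero (s := s)).1 (by grind)

theorem inv_a2 (h1 : p.a1 = 0) : p.a2 = 0 := by
  have := congrArg SG.u2 h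
  simp [h1] at this
  exact (σ_mul_eq_zero (s := s)).1 (by grind)

theorem inv_a1 (h8 : p.u8 ≠ 0) : p.a1 = 0 := by
  have := congrArg SG.a6 h
  simp [inv_a8 h] at this
  grind

theorem inv_u2 (h1 : p.a1 = 0) (h2 : p.u2 * p.u8 = 0) : p.a4 = 0 ∧ p.a6 = 0 := by
  have e4 := congrArg SG.u4 h
  have e5 := congrArg SG.a5 h
  have e6 := congrArg SG.u6 h
  simp [inv_a8 h, inv_a2 h h1, h1] at e4 e5 e6
  have k : p.a6 * s.σ p.a6 * p.a6 = 0 ∧ p.a4 * s.σ p.a4 * p.a4 = 0 := by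
    rcases mul_eq_zero.1 h2 with k | k <;> simp only [k, map_zero] at * <;> grind
  simp at k
  exact ⟨k.2, k.1⟩

theorem inv_Z5 (h1 : p.a1 = 0) (h8 : p.u8 = 0) : p ∈ Z5s s ∧ p.a7 * p.u2 = 0 := by
  obtain ⟨h4, h6⟩ := inv_u2 h h1 (by simp [h8])
  have e4 := congrArg SG.u4 h
  simp [inv_a8 h, inv_a2 h h1, h1, h4, h6, h8] at e4 ⊢
  grind

theorem inv_a7 (h8 : p.u8 = 0) (h7 : p.a7 = 0) : p.a2 = 0 ∧ p.a6 = 0 := by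
  have hQ : p ∈ Qs s := ⟨inv_a8 h, h8⟩
  have := (inv_Z5 (p := nu p) (by rw [← nu_mul hQ hQ, h]; ext <;> simp) h7 rfl).1
  exact ⟨this.2.2.2.1, this.2.1⟩

theorem inv_Mn (h1 : p.a1 ≠ 0) (h2 : p.a2 = 0) (h6 : p.a6 = 0) : p ∈ Mns s := by
  have h8 : p.u8 = 0 := by_contra fun k => h1 (inv_a1 h k)
  have e2 := congrArg SG.u2 h
  have e3 := congrArg SG.a3 h
  have e4 := congrArg SG.u4 h
  have k : s.σ p.a1 ≠ 0 := by simpa using h1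
  simp [inv_a8 h, h2, h6, h8] at e2 e3 e4 ⊢
  have h4 : p.a4 = 0 := by grind
  have h7 : p.a7 = 0 := by grind
  simp [h4, h7] at e4 ⊢
  grind

end

theorem sq_cj {G : Type*} [Group G] {p : G} (h : p * p = 1) (t : G) : t * p * t⁻¹ * (t * p * t⁻¹) = 1 := by
  rw [conj_mul, h]; group

variable [Finite K]

theorem kill26 {p : SG s} (hp : p ∈ Qs s) (h1 : p.a1 ≠ 0) :
    ∃ a v, (w8 a v * p * (w8 a v)⁻¹).a2 = 0 ∧ (w8 a v * p * (w8 a v)⁻¹).a6 = 0 :=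
  ⟨p.a2 / p.a1, p.a6 / p.a1, by simp [hp.1]; grind, by simp [hp.1, hp.2]; grind⟩

theorem cj_Mn {p : SG s} (h : p * p = 1) (h1 : p.a1 ≠ 0) : ∃ a v, w8 a v * p * (w8 a v)⁻¹ ∈ Mns s := by
  obtain ⟨a, v, h2, h6⟩ := kill26 ⟨inv_a8 h, by_contra fun k => h1 (inv_a1 h k)⟩ h1
  exact ⟨a, v, inv_Mn (sq_cj h _) (by rwa [conj_a1]) h2 h6⟩

theorem cj_x8 {p : SG s} (h : p * p = 1) (h8 : p.u8 ≠ 0) : ∃ t e d, t * p * t⁻¹ = zv e d * w8 0 p.u8 := by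
  have h1 := inv_a1 h h8
  have h2 := inv_a2 h h1
  have h3 := inv_a8 h
  obtain ⟨r, hr⟩ : ∃ r, r = x1 (p.a6 / p.u8) * p * (x1 (p.a6 / p.u8))⁻¹ := ⟨_, rfl⟩
  have k : r * r = 1 := hr ▸ sq_cj h _
  have k1 : r.a1 = 0 := by rw [hr, conj_a1, h1]
  have k8 : r.u8 = p.u8 := by simp [hr, h3]
  have k6 : r.a6 = 0 := by simp [hr, h1, h2, h3]; grind
  have k2 := inv_a2 k k1
  have k3 := inv_a8 k
  have e4 := congrArg SG.u4 k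
  have e5 := congrArg SG.a5 k
  have e6 := congrArg SG.u6 k
  simp [k1, k2, k3, k6, k8] at e4 e5 e6
  have l2 : r.u2 = 0 := by grind
  have l4 := (inv_u2 k k1 (by simp [l2])).1
  have l3 : r.a3 = 0 := by simp [l2, l4] at e6; grind
  obtain ⟨b, hb⟩ : ∃ b, b = r.a7 / p.u8 := ⟨_, rfl⟩
  obtain ⟨q, hq⟩ : ∃ q, q = w2 b 0 * r * (w2 b 0)⁻¹ := ⟨_, rfl⟩
  obtain ⟨c, hc⟩ : ∃ c, c = q.a5 / p.u8 := ⟨_, rfl⟩
  refine ⟨w2 0 c * w2 b 0 * x1 (p.a6 / p.u8), (w2 0 c * q * (w2 0 c)⁻¹).u4, (w2 0 c * q * (w2 0 c)⁻¹).u6, ?_⟩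
  have : w2 0 c * w2 b 0 * x1 (p.a6 / p.u8) * p * (w2 0 c * w2 b 0 * x1 (p.a6 / p.u8))⁻¹ =
      w2 0 c * q * (w2 0 c)⁻¹ := by rw [hq, hr]; group
  rw [this]
  have m : q.a1 = 0 ∧ q.a2 = 0 ∧ q.u2 = 0 ∧ q.a3 = 0 ∧ q.a4 = 0 ∧ q.a6 = 0 ∧ q.a7 = 0 ∧ q.a8 = 0 ∧ q.u8 = p.u8 := by
    simp [hq, k1, k2, k3, k6, k8, l2, l3, l4]; grind
  obtain ⟨m1, m2, m3, m4, m5, m6, m7, m8, m9⟩ := m
  ext <;> simp [m1, m2, m3, m4, m5, m6, m7, m8, m9] <;> grind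

/-! ### Generation steps -/

theorem le_step {N N' M : Subgroup (SG s)} (f : SG s → K) (hf : ∀ p ∈ N', ∀ r ∈ N', f p = f r → p⁻¹ * r ∈ N)
    (hN : N ≤ M) {l : K} (hl : l ≠ 0) (h : ∀ c, ∃ p ∈ M, p ∈ N' ∧ f p = l * c) : N' ≤ M := fun r hr => by
  obtain ⟨p, h1, h2, h3⟩ := h (f r / l)
  exact (M.mul_mem_cancel_left (inv_mem h1)).1 (hN (hf p h2 r hr (by rw [h3]; field_simp)))

variable {M : Subgroup (SG s)} {l : K}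

theorem st_X (hl : l ≠ 0) (h : ∀ c, ∃ p ∈ M, p ∈ Xs s ∧ p.u4 = l * c) : Xs s ≤ M :=
  le_step SG.u4 (fun p hp r hr e => mem_bot.2 (by ext <;> simp_all <;> grind)) bot_le hl h

theorem st_V6 (hl : l ≠ 0) (h : ∀ c, ∃ p ∈ M, p ∈ V6s s ∧ p.u6 = l * c) : V6s s ≤ M :=
  le_step SG.u6 (fun p hp r hr e => mem_bot.2 (by ext <;> simp_all <;> grind)) bot_le hl h

theorem st_ZX (hN : Xs s ≤ M) (hl : l ≠ 0) (h : ∀ c, ∃ p ∈ M, p ∈ Zs s ∧ p.u6 = l * c) : Zs s ≤ M :=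
  le_step SG.u6 (fun p hp r hr e => by simp_all <;> grind) hN hl h

theorem st_ZV (hN : V6s s ≤ M) (hl : l ≠ 0) (h : ∀ c, ∃ p ∈ M, p ∈ Zs s ∧ p.u4 = l * c) : Zs s ≤ M :=
  le_step SG.u4 (fun p hp r hr e => by simp_all <;> grind) hN hl h

theorem st_W (hN : Zs s ≤ M) (hl : l ≠ 0) (h : ∀ c, ∃ p ∈ M, p ∈ Ws s ∧ p.a5 = l * c) : Ws s ≤ M :=
  le_step SG.a5 (fun p hp r hr e => by simp_all <;> grind) hN hl h

theorem st_Z4 (hN : Ws s ≤ M) (hl : l ≠ 0) (h : ∀ c, ∃ p ∈ M, p ∈ Z4s s ∧ p.a3 = l * c) : Z4s s ≤ M :=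
  le_step SG.a3 (fun p hp r hr e => by simp_all <;> grind) hN hl h

theorem st_V (hN : Z4s s ≤ M) (hl : l ≠ 0) (h : ∀ c, ∃ p ∈ M, p ∈ Vs s ∧ p.u2 = l * c) : Vs s ≤ M :=
  le_step SG.u2 (fun p hp r hr e => by simp_all <;> grind) hN hl h

theorem st_M1 (hN : Z4s s ≤ M) (hl : l ≠ 0) (h : ∀ c, ∃ p ∈ M, p ∈ M1s s ∧ p.a7 = l * c) : M1s s ≤ M :=
  le_step SG.a7 (fun p hp r hr e => by simp_all <;> grind) hN hl h

theorem st_Z5V (hN : Vs s ≤ M) (hl : l ≠ 0) (h : ∀ c, ∃ p ∈ M, p ∈ Z5s s ∧ p.a7 = l * c) : Z5s s ≤ M :=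
  le_step SG.a7 (fun p hp r hr e => by simp_all <;> grind) hN hl h

theorem st_Z5M (hN : M1s s ≤ M) (hl : l ≠ 0) (h : ∀ c, ∃ p ∈ M, p ∈ Z5s s ∧ p.u2 = l * c) : Z5s s ≤ M :=
  le_step SG.u2 (fun p hp r hr e => by simp_all <;> grind) hN hl h

theorem st_Y (hN : Vs s ≤ M) (hl : l ≠ 0) (h : ∀ c, ∃ p ∈ M, p ∈ Ys s ∧ p.a4 = l * c) : Ys s ≤ M :=
  le_step SG.a4 (fun p hp r hr e => by simp_all <;> grind) hN hl h

theorem st_P7 (hN : Z5s s ≤ M) (hl : l ≠ 0) (h : ∀ c, ∃ p ∈ M, p ∈ P7s s ∧ p.a4 = l * c) : P7s s ≤ M :=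
  le_step SG.a4 (fun p hp r hr e => by simp_all <;> grind) hN hl h

theorem st_P7Y (hN : Ys s ≤ M) (hl : l ≠ 0) (h : ∀ c, ∃ p ∈ M, p ∈ P7s s ∧ p.a7 = l * c) : P7s s ≤ M :=
  le_step SG.a7 (fun p hp r hr e => by simp_all <;> grind) hN hl h

theorem st_Z6 (hN : P7s s ≤ M) (hl : l ≠ 0) (h : ∀ c, ∃ p ∈ M, p ∈ Z6s s ∧ p.a6 = l * c) : Z6s s ≤ M :=
  le_step SG.a6 (fun p hp r hr e => by simp_all <;> grind) hN hl h

theorem st_R1 (hN : Z6s s ≤ M) (hl : l ≠ 0) (h : ∀ c, ∃ p ∈ M, p ∈ R1s s ∧ p.u8 = l * c) : R1s s ≤ M :=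
  le_step SG.u8 (fun p hp r hr e => by simp_all <;> grind) hN hl h

theorem st_QR (hN : Z6s s ≤ M) (hl : l ≠ 0) (h : ∀ c, ∃ p ∈ M, p ∈ QRs s ∧ p.a2 = l * c) : QRs s ≤ M :=
  le_step SG.a2 (fun p hp r hr e => by simp_all <;> grind) hN hl h

theorem st_Z7R (hN : R1s s ≤ M) (hl : l ≠ 0) (h : ∀ c, ∃ p ∈ M, p ∈ Z7s s ∧ p.a2 = l * c) : Z7s s ≤ M :=
  le_step SG.a2 (fun p hp r hr e => by simp_all <;> grind) hN hl h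

theorem st_Z7Q (hN : QRs s ≤ M) (hl : l ≠ 0) (h : ∀ c, ∃ p ∈ M, p ∈ Z7s s ∧ p.u8 = l * c) : Z7s s ≤ M :=
  le_step SG.u8 (fun p hp r hr e => by simp_all <;> grind) hN hl h

end Cfsg.Agent.Oc
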