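import Mathlib
import Cfsg.Agent.Oc.Defs

/-! Essential subgroups contain `W`. -/

set_option autoImplicit false
set_option linter.unusedSectionVars false

namespace Cfsg.Agent.Oc

open Cfsg.Agent.Og SG Subgroup
open scoped commutatorElement

variable {K : Type*} [Field K] [CharP K 2] [Finite K] {s : Sg K} {E : Subgroup (SG s)}

theorem X_Ph_a1 (hZ : Zs s ≤ E) {e : SG s} (he : e ∈ E) (h1 : e.a1 ≠ 0) : Xs s ≤ Ph E :=
  st_X h1 fun c => ⟨⁅w6 0 c, e⁆, cm_Ph (hZ (by simp)) he, by simp, by simp [mul_comm]⟩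

theorem Z_inv {p : SG s} (hp : p ∈ Zs s) : p * p = 1 := V_sq (by simp_all)

theorem e2 (h : Es E) (hZ : Zs s ≤ E) : Ws s ≤ E := by
  refine st_W hZ one_ne_zero fun c => ⟨x5 c, ?_, by simp, by simp⟩
  have k : ∀ x : SG s, ⁅(x5 c : SG s), x⁆ ∈ Zs s := fun x => by simp
  refine h.ch1 pg_SG (Iv.inv ⊤) (fun x _ => ⟨hZ (k x), Z_inv (k x)⟩) fun y ⟨hy, h2⟩ => ?_
  by_cases h1 : y.a1 = 0
  · exact (by ext <;> simp [h1, inv_a8 h2, inv_a2 h2 h1] : ⁅(x5 c : SG s), y⁆ = 1) ▸ one_mem _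
  · exact X_Ph_a1 hZ hy h1 (by simp [inv_a8 h2])

end Cfsg.Agent.Oc
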