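import Mathlib
import Cfsg.Agent.Oc.E2

/-! Essential subgroups contain `Z`. -/

set_option autoImplicit false
set_option linter.unusedSectionVars false

namespace Cfsg.Agent.Oc

open Cfsg.Agent.Og SG Subgroup
open scoped commutatorElement

variable {K : Type*} [Field K] [CharP K 2] [Finite K] {s : Sg K} {E : Subgroup (SG s)}

theorem card_345 : Nat.card (Mns s ⊓ R3s s : Subgroup (SG s)) = Nat.card K ^ 3 :=
  card_of_coords {0, 1, 2, 4, 7, 8, 9, 10, 11} fun p => by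
    simp only [Finset.mem_insert, Finset.mem_singleton, forall_eq_or_imp, forall_eq, mem_inf, mem_Mns, mem_R3s]
    exact ⟨fun ⟨⟨a, b, c, d, e, f, g⟩, h, _, i⟩ => ⟨h, a, i, b, c, d, e, f, g⟩,
      fun ⟨h, a, i, b, c, d, e, f, g⟩ => ⟨⟨a, b, c, d, e, f, g⟩, h, a, i⟩⟩

theorem card_2345 : Nat.card (Mns s ⊓ Rs s : Subgroup (SG s)) = Nat.card K ^ 4 :=
  card_of_coords {0, 1, 4, 7, 8, 9, 10, 11} fun p => by
    simp only [Finset.mem_insert, Finset.mem_singleton, forall_eq_or_imp, forall_eq, mem_inf, mem_Mns, mem_Rs]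
    exact and_comm

theorem card_Z4s : Nat.card (Z4s s) = Nat.card K ^ 4 :=
  card_of_coords {0, 1, 2, 4, 7, 9, 10, 11} fun p => by
    simp only [Finset.mem_insert, Finset.mem_singleton, forall_eq_or_imp, forall_eq]; rfl

theorem pow_ne {i j : ℕ} (h : i ≠ j) : Nat.card K ^ i ≠ Nat.card K ^ j :=
  fun e => h (Nat.pow_right_injective Finite.one_lt_card e)

theorem Mn_comm {x y : SG s} (hx : x ∈ Mns s) (hy : y ∈ Mns s) : ⁅x, y⁆ = 1 := by
  ext <;> simp_all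

theorem M1_comm {x y : SG s} (hx : x ∈ M1s s) (hy : y ∈ M1s s) : ⁅x, y⁆ = 1 := by
  ext <;> simp_all

theorem not_es_Mn : ¬ Es (Mns s) := fun h => pow_ne (K := K) (by norm_num : 4 ≠ 3) (by
  rw [← card_2345 (s := s), ← card_345 (s := s)]
  refine h.card_fix pg_SG (fun _ hx _ => Mn_comm hx) (a := w6 0 1) (b := x7 1) (fun x hx => by simp) (by simp)
    (by simp; grind) (fun x hx => by simp_all) (by simp) (by simp; grind) (fun x => and_congr_right fun hx => ?_)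
    fun x => and_congr_right fun hx => ?_
  · simp [SG.ext_iff]
  · simp_all [SG.ext_iff])

theorem not_es_M1 : ¬ Es (M1s s) := fun h => pow_ne (K := K) (by norm_num : 4 ≠ 3) (by
  rw [← card_Z4s (s := s), ← card_345 (s := s)]
  refine h.card_fix pg_SG (fun _ hx _ => M1_comm hx) (a := w2 0 1) (b := x1 1) (fun x hx => by simp) (by simp)
    (by simp; grind) (fun x hx => by simp_all) (by simp) (by simp; grind) (fun x => ?_) fun x => ?_
  · constructor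
    · intro hx; simp_all [SG.ext_iff]
    · rintro ⟨hx, e⟩; simp_all [SG.ext_iff]
  · constructor
    · intro hx; simp_all [SG.ext_iff]
    · rintro ⟨hx, e⟩; simp_all [SG.ext_iff])

theorem X_comm {p : SG s} (hp : p ∈ Xs s) (r : SG s) : ⁅p, r⁆ = 1 := by ext <;> simp_all

theorem X_le (h : Es E) : Xs s ≤ E := fun _ hp => h.cent pg_SG fun x _ => X_comm hp x

/-- The central involutions. -/
theorem ivZ : Iv (⊤ : Subgroup (MulAut E)) {c | (c ∈ E ∧ c * c = 1) ∧ ∀ e ∈ E, ⁅c, e⁆ = 1} :=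
  (Iv.inv ⊤).cent (Iv.top ⊤)

theorem X_ivZ (h : Es E) {p : SG s} (hp : p ∈ Xs s) : (p ∈ E ∧ p * p = 1) ∧ ∀ e ∈ E, ⁅p, e⁆ = 1 :=
  ⟨⟨X_le h hp, V_sq (Xs_le_Vs hp)⟩, fun e _ => X_comm hp e⟩

theorem e1_aux (h : Es E) {f : SG s} (hf : f ∈ Mns s) (h1 : f.a1 ≠ 0) (h5 : f.a5 = 0)
    (hc : ∀ e ∈ E, ⁅f, e⁆ = 1) : Zs s ≤ E := by
  have k1 : s.σ f.a1 ≠ 0 := by simpa using h1
  have hT : ∀ e ∈ E, e.a4 = 0 ∧ e.a6 = 0 ∧ e.u6 = 0 ∧ e.a7 = 0 ∧ e.a8 = 0 ∧ e.u8 = 0 := fun e he => by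
    have k := hc e he
    obtain ⟨f2, f4, f6, f6', f7, f8, f8'⟩ := hf
    have e8 : e.a8 = 0 := by simpa [f8, h1] using congrArg SG.a2 k
    have e8' : e.u8 = 0 := by simpa [f2, f8, f8', e8, h1] using congrArg SG.a4 k
    have e7 : e.a7 = 0 := by simpa [f2, f4, f6, f7, f8, f8', e8, e8', h1] using congrArg SG.a5 k
    have e6 : e.a6 = 0 := by simpa [f2, f4, f6, f7, f8, f8', e8, e8', e7, h1] using congrArg SG.a3 k
    have e4 : e.a4 = 0 := by simpa [f2, f4, f6, f7, f8, f8', e8, e8', e6, h1] using congrArg SG.u2 k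
    have e6' : e.u6 = 0 := by
      simpa [f2, f4, f6, f6', f7, f8, f8', e8, e8', e6, e7, h1, h5] using congrArg SG.u4 k
    exact ⟨e4, e6, e6', e7, e8, e8'⟩
  have h5 : ∀ c, x5 c ∈ E := fun c => h.ch1 pg_SG ivZ (fun x hx => X_ivZ h (by simp [hT x hx]))
    fun y ⟨⟨hy, h2⟩, _⟩ => (by
      ext <;> simp [hT y hy, (inv_a7 h2 (hT y hy).2.2.2.2.2 (hT y hy).2.2.2.1).1] : ⁅(x5 c : SG s), y⁆ = 1) ▸ one_mem _
  by_cases h2 : ∃ e ∈ E, e.a2 ≠ 0
  · obtain ⟨e, he, h2⟩ := h2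
    have hX : Xs s ≤ Ph E := st_X h2 fun c => ⟨⁅x5 c, e⁆, cm_Ph (h5 c) he, by simp [hT e he],
      by simp [hT e he, mul_comm]⟩
    exact st_ZX (X_le h) one_ne_zero fun c => ⟨w6 0 c, h.ch0 pg_SG fun x _ => hX (by simp), by simp, by simp⟩
  push Not at h2
  have hE : E ≤ Mns s := fun e he => by simp [hT e he, h2 e he]
  exact absurd (le_antisymm hE (fun g hg => h.cent pg_SG fun x hx => Mn_comm hg (hE hx)) ▸ h) not_es_Mn

theorem e1 (h : Es E) : Zs s ≤ E := by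
  by_cases hA : ∀ y : SG s, (y ∈ E ∧ y * y = 1) ∧ (∀ e ∈ E, ⁅y, e⁆ = 1) → y.a1 = 0
  · exact st_ZX (X_le h) one_ne_zero fun c => ⟨w6 0 c, h.ch1 pg_SG ivZ (fun x _ => X_ivZ h (by simp))
      fun y hy => (by ext <;> simp [hA y hy] : ⁅(w6 0 c : SG s), y⁆ = 1) ▸ one_mem _, by simp, by simp⟩
  push Not at hA
  obtain ⟨y, ⟨⟨-, h2⟩, hc⟩, h1⟩ := hA
  obtain ⟨a, v, hf⟩ := cj_Mn h2 h1
  obtain ⟨b, hb⟩ := s.σ_surj ((w8 a v * y * (w8 a v)⁻¹).a5 / y.a1)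
  obtain ⟨E', h', e⟩ := h.cj pg_SG (x7 b * w8 a v)
  have k : x7 b * w8 a v * y * (x7 b * w8 a v)⁻¹ = x7 b * (w8 a v * y * (w8 a v)⁻¹) * (x7 b)⁻¹ := by group
  have k1 := conj_a1 (w8 a v) y
  refine (le_cj e).1 (e1_aux h' (f := x7 b * w8 a v * y * (x7 b * w8 a v)⁻¹) ?_ (by rwa [conj_a1]) ?_ fun x hx => ?_)
  · rw [k]; generalize w8 a v * y * (w8 a v)⁻¹ = f at *; simp_all; grind
  · rw [k]; generalize w8 a v * y * (w8 a v)⁻¹ = f at *; simp_all; grind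
  · obtain ⟨x', hx', rfl⟩ := of_cj e hx
    rw [← conjugate_commutatorElement, hc x' hx']; group

end Cfsg.Agent.Oc
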