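import Mathlib
import Cfsg.Agent.Oc.E1

/-! Essential subgroups contain `U₃ W`. -/

set_option autoImplicit false
set_option linter.unusedSectionVars false

namespace Cfsg.Agent.Oc

open Cfsg.Agent.Og SG Subgroup
open scoped commutatorElement

variable {K : Type*} [Field K] [CharP K 2] [Finite K] {s : Sg K} {E : Subgroup (SG s)}

theorem nm_surj (c : K) : ∃ a, a * s.σ a = c := by
  by_cases hc : c = 0
  · exact ⟨0, by simp [hc]⟩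
  · obtain ⟨a, ha⟩ := s.exists_wt' 1 1 (by norm_num) hc
    exact ⟨a, by simpa using ha⟩

theorem W_inv {p : SG s} (hp : p ∈ Ws s) : p * p = 1 := V_sq (by simp_all)

theorem Z_le_W : Zs s ≤ Ws s := fun _ h => by simp_all

theorem Z_R {p r : SG s} (hp : p ∈ Zs s) (hr : r.a1 = 0) : ⁅p, r⁆ = 1 := by ext <;> simp_all

theorem V6_sq {M : Subgroup (SG s)} (h : ∀ a, w6 a 0 * w6 a 0 ∈ M) : V6s s ≤ M :=
  st_V6 one_ne_zero fun c => by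
    obtain ⟨a, rfl⟩ := nm_surj (s := s) c
    exact ⟨_, h a, by simp; grind, by simp⟩

theorem X_sq {M : Subgroup (SG s)} (h : ∀ a, w4 a 0 * w4 a 0 ∈ M) : Xs s ≤ M :=
  st_X one_ne_zero fun c => by
    obtain ⟨a, rfl⟩ := nm_surj (s := s) c
    exact ⟨_, h a, by simp; grind, by simp⟩

theorem X_Ph_a2 (hW : Ws s ≤ E) {e : SG s} (he : e ∈ E) (h8 : e.a8 = 0) (h2 : e.a2 ≠ 0) : Xs s ≤ Ph E :=
  st_X h2 fun c => ⟨⁅x5 c, e⁆, cm_Ph (hW (by simp)) he, by simp [h8], by simp [h8, mul_comm]⟩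

/-- If some `a₈` is nonzero then `Z ≤ Φ(E)` or a conjugate of `E` has `a₁ = a₂ = 0`. -/
theorem line (h : Es E) (hW : Ws s ≤ E) {e : SG s} (he : e ∈ E) (h8 : e.a8 ≠ 0) : Zs s ≤ Ph E ∨
    ∃ (E' : Subgroup (SG s)) (t : SG s), Es E' ∧ (∀ x, t * x * t⁻¹ ∈ E' ↔ x ∈ E) ∧
      (∀ x ∈ E', x.a1 = 0 ∧ x.a2 = 0) ∧ (∃ e ∈ E', e.a8 ≠ 0) ∧ V6s s ≤ Ph E' := by
  have hZ : Xs s ≤ Ph E → Zs s ≤ Ph E := fun hX => st_ZX hX h8 fun c =>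
    ⟨⁅x5 c, e⁆, cm_Ph (hW (by simp)) he, by simp, by simp [mul_comm]⟩
  by_cases h1 : ∃ x ∈ E, x.a1 ≠ 0
  · obtain ⟨x, hx, h1⟩ := h1
    exact .inl (hZ (X_Ph_a1 (Z_le_W.trans hW) hx h1))
  push Not at h1
  by_cases h2 : ∃ x ∈ E, e.a2 * x.a8 + e.a8 * x.a2 ≠ 0
  · obtain ⟨x, hx, h2⟩ := h2
    have k : ∀ (c : K) (x : SG s), x.a1 = 0 → ⁅(x5 c : SG s), x⁆ = zv (c * x.a2) (c * x.a8) := fun c x hx => by
      ext <;> simp [hx]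
    exact .inl (hZ (st_X h2 fun c => ⟨⁅x5 (c * x.a8), e⁆ * ⁅x5 (c * e.a8), x⁆,
      mul_mem (cm_Ph (hW (by simp)) he) (cm_Ph (hW (by simp)) hx), by simp [k, h1 e he, h1 x hx]; grind,
      by simp [k, h1 e he, h1 x hx]; grind⟩))
  push Not at h2
  obtain ⟨E', h', k⟩ := h.cj pg_SG (x1 (e.a2 / e.a8))
  have h3 : ∀ x ∈ E', x.a1 = 0 ∧ x.a2 = 0 := fun y hy => by
    obtain ⟨x, hx, rfl⟩ := of_cj k hy
    have := h2 x hx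
    simp [h1 x hx]; grind
  have h4 : (x1 (e.a2 / e.a8) * e * (x1 (e.a2 / e.a8))⁻¹).a8 ≠ 0 := by simpa using h8
  refine .inr ⟨E', _, h', k, h3, ⟨_, (k e).2 he, h4⟩, st_V6 h4 fun c => ?_⟩
  generalize hf : x1 (e.a2 / e.a8) * e * (x1 (e.a2 / e.a8))⁻¹ = f
  have hf' : f ∈ E' := hf ▸ (k e).2 he
  exact ⟨⁅x5 c, f⁆, cm_Ph ((le_cj k).2 hW (by simp)) hf', by simp [h3 f hf'], by simp [mul_comm]⟩

theorem x3_W (c : K) (x : SG s) : ⁅(x3 c : SG s), x⁆ ∈ Ws s := by simp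

theorem e3_of (hW : Ws s ≤ E) (h : ∀ c, x3 c ∈ E) : Z4s s ≤ E :=
  st_Z4 hW one_ne_zero fun c => ⟨x3 c, h c, by simp, by simp⟩

theorem e3_a (h : Es E) (hW : Ws s ≤ E) {e : SG s} (he : e ∈ E) (h8 : e.a8 ≠ 0) : Z4s s ≤ E := by
  rcases line h hW he h8 with hZ | ⟨E', t, h', k, h1, ⟨f, hf, h8⟩, hV⟩
  · exact e3_of hW fun c => h.ch1 pg_SG (Iv.inv ⊤) (fun x _ => ⟨hW (x3_W c x), W_inv (x3_W c x)⟩)
      fun y ⟨_, h2⟩ => hZ (by simp [inv_a8 h2])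
  have hW' := (le_cj k).2 hW
  refine (le_cj k).1 (e3_of hW' fun c => h'.ch2 pg_SG (Iv.inv ⊤) ivZ
    (fun x _ => ⟨hW' (x3_W c x), W_inv (x3_W c x)⟩) (fun y ⟨_, h2⟩ => ⟨⟨hW' (x3_W c y), W_inv (x3_W c y)⟩,
      fun x hx => Z_R (by simp [inv_a8 h2]) (h1 x hx).1⟩) fun y ⟨⟨hy, h2⟩, hc⟩ => hV ?_)
  have h6 : y.a6 = 0 := by simpa [h1 y hy, h1 f hf, inv_a8 h2, h8] using congrArg SG.a7 (hc f hf)
  simp [h1 y hy, inv_a8 h2, h6]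

theorem e3_b (h : Es E) (hW : Ws s ≤ E) (h8 : ∀ x ∈ E, x.a8 = 0) {e : SG s} (he : e ∈ E) (h1 : e.a1 ≠ 0) :
    Z4s s ≤ E := by
  refine e3_of hW fun c => h.ch1 pg_SG ((Iv.inv ⊤).cm2 (Iv.top ⊤)) (fun x hx => ⟨⟨hW (x3_W c x), W_inv (x3_W c x)⟩,
    fun y _ => Z_inv (p := ⁅⁅(x3 c : SG s), x⁆, y⁆) (by simp [h8 x hx])⟩)
    fun y ⟨⟨hy, h2⟩, hc⟩ => X_Ph_a1 (Z_le_W.trans hW) he h1 ?_
  have : y.u8 = 0 := by_contra fun k => by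
    have := (inv_u2 (hc e he) (by simp) (by simp [h8 y hy, h8 e he])).2
    simp [h8 y hy, h8 e he, inv_a1 h2 k, k, h1] at this
  simp [h8 y hy, this]

theorem e3_c (h : Es E) (hW : Ws s ≤ E) (h7 : E ≤ R1s s) {u : K} (hu : u ≠ 0)
    (hc : ∀ x ∈ E, ⁅(w8 0 u : SG s), x⁆ = 1) : Z4s s ≤ E := by
  have k : ∀ x ∈ E, x.a1 = 0 ∧ x.a2 = 0 ∧ x.a8 = 0 ∧ x.u2 = 0 ∧ x.a3 = 0 := fun x hx => by
    obtain ⟨k1, k2, k8⟩ := h7 hx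
    have k2' : x.u2 = 0 := by simpa [k1, k2, k8, hu] using congrArg SG.a5 (hc x hx)
    exact ⟨k1, k2, k8, k2', by simpa [k1, k2, k8, k2', hu] using congrArg SG.u6 (hc x hx)⟩
  have k' : ∀ y ∈ E, y * y = 1 → y.a4 = 0 ∧ y.a6 = 0 := fun y hy h2 => inv_u2 h2 (k y hy).1 (by simp [k y hy])
  have h6 : ∀ a, w6 a 0 ∈ E := fun a => h.ch1 pg_SG (Iv.inv ⊤) (fun x hx =>
    have : ⁅(w6 a 0 : SG s), x⁆ ∈ Ws s := by simp [k x hx]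
    ⟨hW this, W_inv this⟩) fun y ⟨hy, h2⟩ =>
      (by ext <;> simp [k y hy, k' y hy h2] : ⁅(w6 a 0 : SG s), y⁆ = 1) ▸ one_mem _
  exact e3_of hW fun c => h.ch1 pg_SG (Iv.inv ⊤) (fun x _ => ⟨hW (x3_W c x), W_inv (x3_W c x)⟩)
    fun y ⟨hy, h2⟩ => V6_sq (fun a => sq_Ph (h6 a)) (by simp [k y hy, k' y hy h2])

theorem e3 (h : Es E) (hW : Ws s ≤ E) : Z4s s ≤ E := by
  by_cases h8 : ∃ e ∈ E, e.a8 ≠ 0
  · obtain ⟨e, he, h8⟩ := h8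
    exact e3_a h hW he h8
  push Not at h8
  by_cases h1 : ∃ e ∈ E, e.a1 ≠ 0
  · obtain ⟨e, he, h1⟩ := h1
    exact e3_b h hW h8 he h1
  push Not at h1
  have k : (∀ c, ∀ y : SG s, (y ∈ E ∧ y * y = 1) ∧ (∀ e ∈ E, ⁅y, e⁆ = 1) → ⁅(x3 c : SG s), y⁆ ∈ Ph E) → Z4s s ≤ E :=
    fun k => e3_of hW fun c => h.ch1 pg_SG ivZ (fun x hx => ⟨⟨hW (x3_W c x), W_inv (x3_W c x)⟩,
      fun y hy => Z_R (by simp [h8 x hx]) (h1 y hy)⟩) (k c)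
  by_cases h2 : ∃ e ∈ E, e.a2 ≠ 0
  · obtain ⟨e, he, h2⟩ := h2
    refine k fun c y ⟨⟨hy, k2⟩, hc⟩ => X_Ph_a2 hW he (h8 e he) h2 ?_
    have : y.u8 = 0 := by
      simpa [h1 y hy, h8 y hy, h1 e he, h8 e he, inv_a2 k2 (h1 y hy), h2] using congrArg SG.a7 (hc e he)
    simp [h8 y hy, this]
  push Not at h2
  by_cases hu : ∀ y : SG s, (y ∈ E ∧ y * y = 1) ∧ (∀ e ∈ E, ⁅y, e⁆ = 1) → y.u8 = 0
  · exact k fun c y hy => (by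
      ext <;> simp [h8 y hy.1.1, hu y hy, (inv_u2 hy.1.2 (h1 y hy.1.1) (by simp [hu y hy])).2] :
        ⁅(x3 c : SG s), y⁆ = 1) ▸ one_mem _
  push Not at hu
  obtain ⟨y, ⟨⟨-, k2⟩, hc⟩, hu⟩ := hu
  obtain ⟨t, a, b, ht⟩ := cj_x8 k2 hu
  obtain ⟨E', h', e⟩ := h.cj pg_SG t
  have h7 : E' ≤ R1s s := (cj_le e).2 fun x hx => ⟨h1 x hx, h2 x hx, h8 x hx⟩
  refine (le_cj e).1 (e3_c h' ((le_cj e).2 hW) h7 hu fun x hx => ?_)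
  have k1 : ⁅(zv a b : SG s), x⁆ = 1 := Z_R (by simp) (h7 hx).1
  obtain ⟨x', hx', rfl⟩ := of_cj e hx
  have k3 : ⁅(zv a b * w8 0 y.u8 : SG s), t * x' * t⁻¹⁆ = 1 := by rw [← ht, ← conjugate_commutatorElement, hc x' hx']; group
  rw [commutatorElement_eq_one_iff_commute] at *
  simpa using k1.inv_left.mul_left k3

end Cfsg.Agent.Oc
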