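import Mathlib
import Cfsg.Agent.Oc.E3

/-! Essential subgroups not in `Q` contain `V U₇`. -/

set_option autoImplicit false
set_option linter.unusedSectionVars false

namespace Cfsg.Agent.Oc

open Cfsg.Agent.Og SG Subgroup
open scoped commutatorElement

variable {K : Type*} [Field K] [CharP K 2] [Finite K] {s : Sg K} {E : Subgroup (SG s)}

theorem Z4_inv {p : SG s} (hp : p ∈ Z4s s) : p * p = 1 := V_sq (by simp_all)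

theorem W_le_Z4 : Ws s ≤ Z4s s := fun _ h => by simp_all

theorem Z_le_Z4 : Zs s ≤ Z4s s := Z_le_W.trans W_le_Z4

theorem X_le_Z : Xs s ≤ Zs s := fun _ h => by simp_all

theorem Z5_Z4 {g : SG s} (hg : g ∈ Z5s s) (x : SG s) : ⁅g, x⁆ ∈ Z4s s := by simp_all

theorem Z4_W {g : SG s} (hg : g ∈ Z4s s) (x : SG s) : ⁅g, x⁆ ∈ Ws s := by simp_all

theorem W_Z {g : SG s} (hg : g ∈ Ws s) (x : SG s) : ⁅g, x⁆ ∈ Zs s := by simp_all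

theorem Z5_X {g x : SG s} (hg : g ∈ Z5s s) (hx : x ∈ Z5s s) : ⁅g, x⁆ ∈ Xs s := by simp_all

theorem W_R1 {p r : SG s} (hp : p ∈ Ws s) (hr : r ∈ R1s s) : ⁅p, r⁆ = 1 := by ext <;> simp_all

theorem L4 (h : Es E) (h4 : Z4s s ≤ E) (h1 : ∀ x ∈ E, x.a1 = 0 ∧ x.a2 = 0) (hV : V6s s ≤ Ph E)
    (hu : ∀ y ∈ E, y * y = 1 → (∀ e ∈ E, ⁅y, e⁆ = 1) → y.u2 = 0) : Zs s ≤ Ph E := by
  have k : ∀ (c : K), ∀ x ∈ E, ⁅(x7 c : SG s), x⁆ = zv (c * x.u2) (c * x.a4) := fun c x hx => by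
    ext <;> simp [h1 x hx]
  have h7 : ∀ c, x7 c ∈ E := fun c => h.ch1 pg_SG ivZ (fun x hx => ⟨⟨h4 (by simp [k c x hx]),
    Z_inv (by simp [k c x hx])⟩, fun y hy => Z_R (by simp [k c x hx]) (h1 y hy).1⟩)
    fun y ⟨⟨hy, h2⟩, hc⟩ => hV (by simp [k c y hy, hu y hy h2 hc])
  by_cases h2 : ∃ x ∈ E, x.u2 ≠ 0
  · obtain ⟨x, hx, h2⟩ := h2
    exact st_ZV hV h2 fun c => ⟨_, cm_Ph (h7 c) hx, by simp [k c x hx], by simp [k c x hx, mul_comm]⟩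
  push Not at h2
  have h6 : ∀ a, w4 a 0 ∈ E := fun a => h.ch1 pg_SG (Iv.inv ⊤) (fun x hx =>
    have : ⁅(w4 a 0 : SG s), x⁆ ∈ Z4s s := by simp [h1 x hx]
    ⟨h4 this, Z4_inv this⟩) fun y ⟨hy, k2⟩ => hV (by
      simp [h1 y hy, inv_u2 k2 (h1 y hy).1 (by simp [h2 y hy]), SG.ext_iff])
  exact st_ZX (X_sq fun a => sq_Ph (h6 a)) one_ne_zero fun c => ⟨w6 0 c, hV (by simp), by simp, by simp⟩

theorem W_Ph (h4 : Z4s s ≤ E) (hZ : Zs s ≤ Ph E) {e : SG s} (he : e ∈ E) (h8 : e.a8 ≠ 0) : Ws s ≤ Ph E :=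
  st_W hZ (l := s.σ e.a8) (by simpa using h8) fun c => ⟨⁅x3 c, e⁆, cm_Ph (h4 (by simp)) he, by simp,
    by simp [mul_comm]⟩

theorem cm2_a1 {y e : SG s} (h2 : y * y = 1) (h8 : e.a8 ≠ 0) (hc : ⁅y, e⁆ * ⁅y, e⁆ = 1) : y.a1 = 0 := by
  simpa [inv_a8 h2, h8] using inv_a2 hc (by simp)

theorem e4_a (h : Es E) (h4 : Z4s s ≤ E) (hZ : Zs s ≤ Ph E) {e : SG s} (he : e ∈ E) (h8 : e.a8 ≠ 0) :
    Z5s s ≤ E := fun g hg => h.ch1 pg_SG ((Iv.inv ⊤).cm2 (Iv.top ⊤)) (fun x _ =>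
  ⟨⟨h4 (Z5_Z4 hg x), Z4_inv (Z5_Z4 hg x)⟩, fun y _ => W_inv (Z4_W (Z5_Z4 hg x) y)⟩)
  fun y ⟨⟨_, h2⟩, hc⟩ => W_Ph h4 hZ he h8 (by
    have := cm2_a1 h2 h8 (hc e he)
    have := inv_a8 h2
    simp_all)

/-- Involutions all of whose commutators are involutions. -/
theorem cm2_Z5 (h8 : ∀ x ∈ E, x.a8 = 0) {e f : SG s} (he : e ∈ E) (h1 : e.a1 ≠ 0) (hf : f ∈ E) (hu : f.u8 ≠ 0)
    {y : SG s} (hy : y ∈ E) (h2 : y * y = 1) (hc : ∀ e ∈ E, ⁅y, e⁆ * ⁅y, e⁆ = 1) : y ∈ Z5s s := by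
  have k : ∀ x ∈ E, y.a1 * x.u8 + y.u8 * x.a1 = 0 := fun x hx => by
    simpa [h8 y hy, h8 x hx] using (inv_u2 (hc x hx) (by simp) (by simp [h8 y hy, h8 x hx])).2
  have k8 : y.u8 = 0 := by_contra fun k' => by simpa [inv_a1 h2 k', k', h1] using k e he
  exact (inv_Z5 h2 (by simpa [k8, hu] using k f hf) k8).1

theorem e4_c (h : Es E) (h4 : Z4s s ≤ E) (h7 : E ≤ R1s s) {e : SG s} (he : e ∈ E) (hu : e.u8 ≠ 0)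
    (h6 : e.a6 = 0) : Z5s s ≤ E := by
  have k : ∀ y ∈ E, y * y = 1 → (∀ e ∈ E, ⁅y, e⁆ = 1) → y ∈ Z5s s := fun y hy h2 hc =>
    (inv_Z5 h2 (h7 hy).1 (by
      simpa [(h7 hy).2.2] using congrArg SG.u6 (cm_one_swap (hc (x3 1) (h4 (by simp)))))).1
  have hZ := L4 h h4 (fun x hx => ⟨(h7 hx).1, (h7 hx).2.1⟩) (st_V6 hu fun c => ⟨⁅x3 c, e⁆,
    cm_Ph (h4 (by simp)) he, by have := h7 he; simp_all, by have := h7 he; simp_all [mul_comm]⟩) fun y hy h2 hc => by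
      simpa [mem_Z5s.1 (k y hy h2 hc), mem_R1s.1 (h7 he), hu] using congrArg SG.a5 (hc e he)
  exact fun g hg => h.ch1 pg_SG ivZ (fun x hx => ⟨⟨h4 (Z5_Z4 hg x), Z4_inv (Z5_Z4 hg x)⟩,
    fun y hy => W_R1 (by have := h7 hx; simp_all) (h7 hy)⟩) fun y ⟨⟨hy, h2⟩, hc⟩ =>
    hZ (X_le_Z (Z5_X hg (k y hy h2 hc)))

theorem e4 (h : Es E) (h4 : Z4s s ≤ E) (hQ : ¬ E ≤ Qs s) : Z5s s ≤ E := by
  by_cases h8 : ∃ e ∈ E, e.a8 ≠ 0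
  · obtain ⟨e, he, h8⟩ := h8
    rcases line h (W_le_Z4.trans h4) he h8 with hZ | ⟨E', t, h', k, h1, ⟨f, hf, h8⟩, hV⟩
    · exact e4_a h h4 hZ he h8
    have h4' := (le_cj k).2 h4
    exact (le_cj k).1 (e4_a h' h4' (L4 h' h4' h1 hV fun y hy h2 hc => by
      simpa [h1 y hy, h1 f hf, inv_a8 h2, h8] using congrArg SG.a3 (hc f hf)) hf h8)
  push Not at h8
  obtain ⟨f, hf, hu⟩ : ∃ f ∈ E, f.u8 ≠ 0 := by_contra fun k => hQ fun x hx => ⟨h8 x hx, by_contra fun k' =>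
    k ⟨x, hx, k'⟩⟩
  by_cases h1 : ∃ e ∈ E, e.a1 ≠ 0
  · obtain ⟨e, he, h1⟩ := h1
    exact fun g hg => h.ch1 pg_SG ((Iv.inv ⊤).cm2 (Iv.top ⊤)) (fun x _ =>
      ⟨⟨h4 (Z5_Z4 hg x), Z4_inv (Z5_Z4 hg x)⟩, fun y _ => W_inv (Z4_W (Z5_Z4 hg x) y)⟩)
      fun y ⟨⟨hy, h2⟩, hc⟩ => X_Ph_a1 (Z_le_Z4.trans h4) he h1 (Z5_X hg (cm2_Z5 h8 he h1 hf hu hy h2 hc))
  push Not at h1
  by_cases h2 : ∃ e ∈ E, e.a2 ≠ 0
  · obtain ⟨e, he, h2⟩ := h2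
    refine fun g hg => h.ch1 pg_SG ((Iv.inv ⊤).cmm (Iv.top ⊤) ((Iv.top ⊤).cent (Iv.top ⊤))) (fun x hx =>
      have : ⁅g, x⁆ ∈ Ws s := by have := h1 x hx; have := h8 x hx; simp_all
      ⟨⟨h4 (Z5_Z4 hg x), Z4_inv (Z5_Z4 hg x)⟩, fun y _ => ⟨h4 (Z_le_Z4 (W_Z this y)), fun z hz =>
        Z_R (W_Z this y) (h1 z hz)⟩⟩) fun y ⟨⟨hy, k2⟩, hc⟩ => X_Ph_a2 (W_le_Z4.trans h4) he (h8 e he) h2
          (Z5_X hg (inv_Z5 k2 (h1 y hy) ?_).1)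
    have k : ⁅y, e⁆ ∈ M1s s ∧ ⁅y, e⁆.a7 = y.u8 * e.a2 := by
      simp [h1 y hy, h8 y hy, h1 e he, h8 e he, inv_a2 k2 (h1 y hy)]
    have := congrArg SG.a5 ((hc e he).2 e he)
    generalize ⁅y, e⁆ = z at *
    simpa [(mem_M1s.1 k.1), k.2, h1 e he, h8 e he, h2] using this
  push Not at h2
  obtain ⟨E', h', k⟩ := h.cj pg_SG (x1 (f.a6 / f.u8))
  exact (le_cj k).1 (e4_c h' ((le_cj k).2 h4) ((cj_le k).2 fun x hx => ⟨h1 x hx, h2 x hx, h8 x hx⟩) ((k f).2 hf)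
    (by simpa [h8 f hf] using hu) (by simp [h1 f hf, h2 f hf, h8 f hf]; grind))

end Cfsg.Agent.Oc
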