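import Mathlib
import Cfsg.Agent.Oc.E4

/-! The only essential subgroup inside `Q` is `Q`. -/

set_option autoImplicit false
set_option linter.unusedSectionVars false

namespace Cfsg.Agent.Oc

open Cfsg.Agent.Og SG Subgroup
open scoped commutatorElement

variable {K : Type*} [Field K] [CharP K 2] [Finite K] {s : Sg K} {E : Subgroup (SG s)}

theorem Z4_le_V : Z4s s ≤ Vs s := fun _ h => by simp_all

theorem exists_cm_X {y : SG s} (hy : y ∈ Qs s) (hY : y ∉ Ys s) (c : K) : ∃ v ∈ Vs s, ⁅y, v⁆ = w4 0 c := by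
  obtain ⟨h8, h8'⟩ := hy
  by_cases h1 : y.a1 = 0
  · by_cases h2 : y.a2 = 0
    · by_cases h6 : y.a6 = 0
      · have h7 : y.a7 ≠ 0 := fun h7 => hY (by simp [h1, h2, h6, h7, h8, h8'])
        exact ⟨w2 0 (c / y.a7), by simp, by ext <;> simp [*]; grind⟩
      · exact ⟨x3 (c / y.a6), by simp, by ext <;> simp [*]; grind⟩
    · exact ⟨x5 (c / y.a2), by simp, by ext <;> simp [*]; grind⟩
  · exact ⟨w6 0 (c / y.a1), by simp, by ext <;> simp [*]; grind⟩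

theorem eq_V (h : Es E) (h4 : Z4s s ≤ E) (hQ : E ≤ Qs s) : Vs s ≤ E := by
  have k : ∀ (c : K), ∀ x ∈ E, ⁅(w2 0 c : SG s), x⁆ = w4 0 (c * x.a7) := fun c x hx => by
    ext <;> simp [mem_Qs.1 (hQ hx)]
  refine st_V h4 one_ne_zero fun c => ⟨w2 0 c, ?_, by simp, by simp⟩
  by_cases hX : Xs s ≤ Ph E
  · exact h.ch0 pg_SG fun x hx => hX (by simp [k c x hx])
  have h7 : E ≤ P7s s := fun x hx => ⟨by_contra fun k => hX (X_Ph_a1 (Z_le_Z4.trans h4) hx k),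
    by_contra fun k => hX (X_Ph_a2 (W_le_Z4.trans h4) hx (hQ hx).1 k), by_contra fun k => hX (st_X k fun c =>
      ⟨⁅x3 c, x⁆, cm_Ph (h4 (by simp)) hx, by simp [mem_Qs.1 (hQ hx)], by simp [mem_Qs.1 (hQ hx), mul_comm]⟩), hQ hx⟩
  refine h.ch1 pg_SG ivZ (fun x hx => X_ivZ h (by simp [k c x hx])) fun y ⟨⟨hy, h2⟩, hc⟩ => ?_
  by_cases k7 : y.a7 = 0
  · rw [k c y hy, k7, mul_zero]; exact (by ext <;> simp : (w4 0 0 : SG s) = 1) ▸ one_mem _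
  obtain ⟨k1, k2⟩ := inv_Z5 h2 (h7 hy).1 (hQ hy).2
  have hM : E ≤ M1s s := fun x hx => by
    have e4 : x.a4 = 0 := by simpa [mem_Z5s.1 k1, mem_P7s.1 (h7 hx), k7] using congrArg SG.u6 (hc x hx)
    have e2 : x.u2 = 0 := by
      simpa [mem_Z5s.1 k1, mem_P7s.1 (h7 hx), k7, (mul_eq_zero.1 k2).resolve_left k7] using congrArg SG.u4 (hc x hx)
    simp [mem_P7s.1 (h7 hx), e4, e2]
  exact absurd (le_antisymm hM (fun g hg => h.cent pg_SG fun x hx => M1_comm hg (hM hx)) ▸ h) not_es_M1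

theorem Y_inv {y : SG s} (hy : y ∈ Ys s) (h2 : y * y = 1) : y ∈ Vs s := by
  have := inv_u2 h2 hy.1 (by simp_all)
  simp_all

theorem not_le_Y (h : Es E) (hV : Vs s ≤ E) : ¬ E ≤ Ys s := fun hY => by
  have h4 : ∀ a, w4 a 0 ∈ E := fun a => h.ch1 pg_SG (Iv.inv ⊤) (fun x hx =>
    (X_ivZ h (by simp [mem_Ys.1 (hY hx)])).1) fun y ⟨hy, h2⟩ =>
      (by ext <;> simp [mem_Vs.1 (Y_inv (hY hy) h2)] : ⁅(w4 a 0 : SG s), y⁆ = 1) ▸ one_mem _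
  have : x7 1 ∈ E := h.ch1 pg_SG (Iv.inv ⊤) (fun x hx =>
    have : ⁅(x7 1 : SG s), x⁆ ∈ Vs s := by simp [mem_Ys.1 (hY hx)]
    ⟨hV this, V_sq this⟩) fun y ⟨hy, h2⟩ => X_sq (fun a => sq_Ph (h4 a)) (by simp [mem_Vs.1 (Y_inv (hY hy) h2)])
  simpa using hY this

theorem eQ_7 (h : Es E) (hV : Vs s ≤ E) (hQ : E ≤ Qs s) {y : SG s} (hy : y ∈ Z5s s) (h7 : y.a7 ≠ 0)
    (hc : ∀ x ∈ E, ⁅y, x⁆ ∈ Xs s) : False := by
  have k : ∀ x ∈ E, x.a1 = 0 ∧ x.a2 = 0 ∧ x.a4 = 0 ∧ x.a8 = 0 ∧ x.u8 = 0 := fun x hx => by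
    have k := hc x hx
    obtain ⟨k8, k8'⟩ := hQ hx
    simp [mem_Z5s.1 hy, k8, k8', h7] at k
    obtain ⟨k1, k2, k4⟩ := k
    simp [k1, h7] at k2
    simp [k2, h7] at k4
    exact ⟨k1, k2, k4, k8, k8'⟩
  have : w4 1 0 ∈ E := h.ch2 pg_SG (Iv.inv ⊤) ivZ (fun x hx =>
    have : ⁅(w4 1 0 : SG s), x⁆ ∈ Vs s := by simp [k x hx]
    ⟨hV this, V_sq this⟩) (fun z ⟨hz, h2⟩ =>
    have : ⁅(w4 1 0 : SG s), z⁆ ∈ Zs s := by simp [mem_Z5s.1 (inv_Z5 h2 (k z hz).1 (hQ hz).2).1]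
    ⟨⟨hV (Z4_le_V (Z_le_Z4 this)), Z_inv this⟩, fun x hx => Z_R this (k x hx).1⟩) fun z ⟨⟨hz, h2⟩, hc⟩ => by
      have h7 : z.a7 = 0 := by simpa [k z hz] using congrArg SG.u4 (hc (w2 0 1) (hV (by simp)))
      exact (by ext <;> simp [mem_Z5s.1 (inv_Z5 h2 (k z hz).1 (hQ hz).2).1, h7] :
        ⁅(w4 1 0 : SG s), z⁆ = 1) ▸ one_mem _
  simpa using k _ this

theorem eQ_1 (h : Es E) (hV : Vs s ≤ E) (hQ : E ≤ Qs s) {y : SG s} (hy : y ∈ Mns s) (h1 : y.a1 ≠ 0)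
    (hc : ∀ x ∈ E, ⁅y, x⁆ ∈ Xs s) : False := by
  have k : ∀ x ∈ E, x.a7 = 0 ∧ x.a6 = 0 ∧ x.a4 = 0 ∧ x.a8 = 0 ∧ x.u8 = 0 := fun x hx => by
    have k := hc x hx
    obtain ⟨k8, k8'⟩ := hQ hx
    simp [mem_Mns.1 hy, k8, k8', h1] at k
    obtain ⟨k4, k6, k7⟩ := k
    simp [k7, h1] at k6
    simp [k6, h1] at k4
    exact ⟨k7, k6, k4, k8, k8'⟩
  have : w4 1 0 ∈ E := h.ch2 pg_SG (Iv.inv ⊤) ivZ (fun x hx =>
    have : ⁅(w4 1 0 : SG s), x⁆ ∈ Vs s := by simp [k x hx]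
    ⟨hV this, V_sq this⟩) (fun z ⟨hz, h2⟩ =>
    have : ⁅(w4 1 0 : SG s), z⁆ = w2 0 z.a1 := by ext <;> simp [k z hz, inv_a7 h2 (hQ hz).2 (k z hz).1]
    this ▸ ⟨⟨hV (by simp), V_sq (by simp)⟩, fun x hx => by ext <;> simp [k x hx]⟩) fun z ⟨⟨hz, h2⟩, hc⟩ => by
      have h7 : z.a1 = 0 := by simpa [k z hz] using congrArg SG.u4 (hc (w6 0 1) (hV (by simp)))
      exact (by ext <;> simp [k z hz, inv_a7 h2 (hQ hz).2 (k z hz).1, h7] :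
        ⁅(w4 1 0 : SG s), z⁆ = 1) ▸ one_mem _
  simpa using k _ this

theorem eQ (h : Es E) (h4 : Z4s s ≤ E) (hQ : E ≤ Qs s) : E = Qs s := by
  have hV := eq_V h h4 hQ
  obtain ⟨e, he, hY⟩ := SetLike.not_le_iff_exists.1 (not_le_Y h hV)
  have hX : Xs s ≤ Ph E := st_X one_ne_zero fun c => by
    obtain ⟨v, hv, k⟩ := exists_cm_X (hQ he) hY c
    exact ⟨_, k ▸ cm_Ph he (hV hv), by simp, by simp⟩
  have hc : (Xs s : Set (SG s)).ncard = Nat.card K := by rw [← card_Xs (s := s)]; rfl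
  by_cases hA : ∀ y, (y ∈ E ∧ y * y = 1) ∧ {z | ∃ e ∈ E, z = ⁅y, e⁆}.ncard ≤ Nat.card K → y ∈ Vs s
  · refine le_antisymm hQ fun g hg => h.ch1 pg_SG ((Iv.inv ⊤).few (Nat.card K)) (fun x hx => ?_)
      fun y hy => hX (comm_mem_X hg (hA y hy))
    have hv := comm_mem_V hg (hQ hx)
    exact ⟨⟨hV hv, V_sq hv⟩, hc ▸ Set.ncard_le_ncard (by rintro _ ⟨e, he, rfl⟩; exact cm_swap (comm_mem_X (hQ he) hv))⟩
  push Not at hA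
  obtain ⟨y, ⟨⟨hy, h2⟩, hn⟩, hv⟩ := hA
  have k : (Xs s : Set (SG s)) = {z | ∃ e ∈ E, z = ⁅y, e⁆} := Set.eq_of_subset_of_ncard_le (fun z hz => by
    obtain ⟨c, rfl⟩ := mem_Xs_iff.1 hz
    obtain ⟨v, hv, k⟩ := exists_cm_X (hQ hy) (fun k => hv (Y_inv k h2)) c
    exact ⟨v, hV hv, k.symm⟩) (hc ▸ hn)
  have k' : ∀ x ∈ E, ⁅y, x⁆ ∈ Xs s := fun x hx => show _ ∈ (Xs s : Set (SG s)) from k ▸ ⟨x, hx, rfl⟩
  by_cases h1 : y.a1 = 0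
  · have := (inv_Z5 h2 h1 (hQ hy).2).1
    exact (eQ_7 h hV hQ this (fun h7 => hv (by simp_all)) k').elim
  obtain ⟨a, v, hf⟩ := cj_Mn h2 h1
  obtain ⟨E', h', e⟩ := h.cj pg_SG (w8 a v)
  refine (eQ_1 h' ((le_cj e).2 hV) ((cj_le e).2 hQ) hf (by rwa [conj_a1]) fun x hx => ?_).elim
  obtain ⟨x', hx', rfl⟩ := of_cj e hx
  obtain ⟨c, hc⟩ := mem_Xs_iff.1 (k' x' hx')
  rw [← conjugate_commutatorElement, hc, w4_comm, mul_inv_cancel_right]; simp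

end Cfsg.Agent.Oc
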