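import Mathlib
import Cfsg.Agent.Oc.EQ

/-! Essential subgroups not in `Q` contain `Y U₆ U₇`; those inside `R` equal `R`. -/

set_option autoImplicit false
set_option linter.unusedSectionVars false

namespace Cfsg.Agent.Oc

open Cfsg.Agent.Og SG Subgroup
open scoped commutatorElement

variable {K : Type*} [Field K] [CharP K 2] [Finite K] {s : Sg K} {E : Subgroup (SG s)}

theorem V_le_Z5 : Vs s ≤ Z5s s := fun _ h => by simp_all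

theorem Z4_le_Z5 : Z4s s ≤ Z5s s := Z4_le_V.trans V_le_Z5

theorem Z5_le_Z6 : Z5s s ≤ Z6s s := fun _ h => by simp_all

theorem Z6_Z5 {g : SG s} (hg : g ∈ Z6s s) (x : SG s) : ⁅g, x⁆ ∈ Z5s s := by simp_all

theorem X_Ph (h5 : Z5s s ≤ E) : Xs s ≤ Ph E := st_X one_ne_zero fun c =>
  ⟨⁅w2 0 c, x7 1⁆, cm_Ph (h5 (by simp)) (h5 (by simp)), by simp, by simp⟩

theorem Z4_Ph_a8 (h5 : Z5s s ≤ E) {e : SG s} (he : e ∈ E) (h8 : e.a8 ≠ 0) : Z4s s ≤ Ph E :=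
  st_Z4 (W_Ph (Z4_le_Z5.trans h5) (st_ZX (X_Ph h5) h8 fun c => ⟨⁅x5 c, e⁆, cm_Ph (h5 (by simp)) he, by simp,
    by simp [mul_comm]⟩) he h8) h8 fun c => ⟨⁅w2 0 c, e⁆, cm_Ph (h5 (by simp)) he, by simp, by simp [mul_comm]⟩

theorem W_Ph_u8 (h5 : Z5s s ≤ E) {e : SG s} (he : e ∈ E) (h8 : e.a8 = 0) (hu : e.u8 ≠ 0) : Ws s ≤ Ph E :=
  st_W (st_ZX (X_Ph h5) hu fun c => ⟨⁅x3 c, e⁆, cm_Ph (h5 (by simp)) he, by simp [h8], by simp [h8, mul_comm]⟩) hu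
    fun c => ⟨⁅w2 0 c, e⁆, cm_Ph (h5 (by simp)) he, by simp [h8], by simp [h8, mul_comm]⟩

theorem Z4_Ph_a1 (h5 : Z5s s ≤ E) (hW : Ws s ≤ Ph E) {e : SG s} (he : e ∈ E) (h1 : e.a1 ≠ 0) : Z4s s ≤ Ph E :=
  st_Z4 hW (l := s.σ e.a1) (by simpa using h1) fun c =>
    ⟨⁅x7 c, e⁆, cm_Ph (h5 (by simp)) he, by simp, by simp [mul_comm]⟩

theorem wd4 : Wd.{_} fun _ _ x y => x * y * (x * y) := fun _ _ _ _ f x y => by simp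

theorem Z5_four {y : SG s} (hy : y ∈ Z5s s) : y * y * (y * y) = 1 := V_sq (by simp_all; grind)

theorem M1_inv {p : SG s} (hp : p ∈ M1s s) : p * p = 1 := by ext <;> simp_all <;> grind

theorem exists_u8 (h8 : ∀ x ∈ E, x.a8 = 0) (hQ : ¬ E ≤ Qs s) : ∃ f ∈ E, f.u8 ≠ 0 :=
  by_contra fun k => hQ fun x hx => ⟨h8 x hx, by_contra fun k' => k ⟨x, hx, k'⟩⟩

theorem e5 (h : Es E) (h5 : Z5s s ≤ E) (hQ : ¬ E ≤ Qs s) : Z6s s ≤ E := fun g hg => by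
  by_cases h1 : ∃ e ∈ E, e.a1 ≠ 0
  · obtain ⟨e, he, h1⟩ := h1
    by_cases h8 : ∃ f ∈ E, f.a8 ≠ 0
    · obtain ⟨f, hf, h8⟩ := h8
      refine h.ch1 pg_SG (((Iv.top ⊤).pre1 _ wd4).cm2 (Iv.top ⊤)) (fun x _ => ⟨⟨h5 (Z6_Z5 hg x), Z5_four (Z6_Z5 hg x)⟩,
        fun y _ => Z4_inv (Z5_Z4 (Z6_Z5 hg x) y)⟩) fun y ⟨⟨_, h4⟩, hc⟩ => Z4_Ph_a8 h5 hf h8 ?_
      have k : ∀ x ∈ E, y.a1 * x.a8 + y.a8 * x.a1 = 0 := fun x hx => by simpa using inv_a2 (hc x hx) (by simp)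
      have k8 : y.a8 = 0 := by_contra fun k' => by
        have : y.a1 = 0 := by simpa [k', CharTwo.add_self_eq_zero] using inv_a2 h4 (by simp; grind)
        simpa [this, k', h1] using k e he
      have k1 : y.a1 = 0 := by simpa [k8, h8] using k f hf
      simp [mem_Z6s.1 hg, k1, k8]
    push Not at h8
    obtain ⟨f, hf, hu⟩ := exists_u8 h8 hQ
    exact h.ch1 pg_SG ((Iv.inv ⊤).cm2 (Iv.top ⊤)) (fun x hx => ⟨⟨h5 (Z6_Z5 hg x), V_sq (by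
      simp [mem_Z6s.1 hg, h8 x hx])⟩, fun y _ => Z4_inv (Z5_Z4 (Z6_Z5 hg x) y)⟩) fun y ⟨⟨hy, h2⟩, hc⟩ =>
      Z4_Ph_a1 h5 (W_Ph_u8 h5 hf (h8 f hf) hu) he h1 (cm_swap (Z5_Z4 (cm2_Z5 h8 he h1 hf hu hy h2 hc) g))
  push Not at h1
  refine h.ch1 pg_SG (Iv.inv ⊤) (fun x hx => ⟨h5 (Z6_Z5 hg x), M1_inv (by simp [mem_Z6s.1 hg, h1 x hx])⟩)
    fun y ⟨hy, h2⟩ => ?_
  have : Ws s ≤ Ph E := by
    by_cases h8 : ∃ f ∈ E, f.a8 ≠ 0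
    · obtain ⟨f, hf, h8⟩ := h8
      exact W_le_Z4.trans (Z4_Ph_a8 h5 hf h8)
    push Not at h8
    obtain ⟨f, hf, hu⟩ := exists_u8 h8 hQ
    exact W_Ph_u8 h5 hf (h8 f hf) hu
  exact this (by simp [mem_Z6s.1 hg, h1 y hy, inv_a8 h2, inv_a2 h2 (h1 y hy)])

theorem W_Ph6 (h6 : Z6s s ≤ E) : Ws s ≤ Ph E :=
  st_W (st_ZX (X_Ph (Z5_le_Z6.trans h6)) one_ne_zero fun c =>
    ⟨⁅w4 c 0, x7 1⁆, cm_Ph (h6 (by simp)) (h6 (by simp)), by simp, by simp⟩) one_ne_zero fun c =>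
    ⟨⁅w4 c 0, w6 1 0⁆, cm_Ph (h6 (by simp)) (h6 (by simp)), by simp, by simp⟩

theorem cent_x8 {u : K} (hu : u ≠ 0) {y : SG s} (h1 : y.a1 = 0) (h2 : y * y = 1) (hc : ⁅(w8 0 u : SG s), y⁆ = 1) :
    y.a1 = 0 ∧ y.a2 = 0 ∧ y.a8 = 0 ∧ y.u2 = 0 ∧ y.a3 = 0 ∧ y.a4 = 0 ∧ y.a6 = 0 := by
  have k2 := inv_a2 h2 h1
  have k8 := inv_a8 h2
  have k2' : y.u2 = 0 := by simpa [h1, k2, k8, hu] using congrArg SG.a5 hc
  exact ⟨h1, k2, k8, k2', by simpa [h1, k2, k8, k2', hu] using congrArg SG.u6 hc, inv_u2 h2 h1 (by simp [k2'])⟩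

theorem Vm_comm {x y : SG s} (hx : x.a1 = 0 ∧ x.a2 = 0 ∧ x.a8 = 0 ∧ x.u2 = 0 ∧ x.a3 = 0 ∧ x.a4 = 0 ∧ x.a6 = 0)
    (hy : y.a1 = 0 ∧ y.a2 = 0 ∧ y.a8 = 0 ∧ y.u2 = 0 ∧ y.a3 = 0 ∧ y.a4 = 0 ∧ y.a6 = 0) : ⁅x, y⁆ = 1 := by
  ext <;> simp [hx, hy]

theorem nab_M1 {c e e' : SG s} (h1 : c.a1 = 0) (h2 : c * c = 1) (k1 : e.a1 = 0) (k2 : e * e = 1) (l1 : e'.a1 = 0)
    (l2 : e' * e' = 1) (hc : ⁅c, e⁆ = 1) (hc' : ⁅c, e'⁆ = 1) (hn : ⁅e, e'⁆ ≠ 1) : c ∈ M1s s := by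
  have h8 : c.u8 = 0 := by_contra fun hu => hn (by
    obtain ⟨t, a, b, ht⟩ := cj_x8 h2 hu
    have k := fun {e : SG s} (k1 : e.a1 = 0) (k2 : e * e = 1) (hc : ⁅c, e⁆ = 1) =>
      cent_x8 hu (y := t * e * t⁻¹) (by rwa [conj_a1]) (sq_cj k2 t) (by
        have k1 : ⁅(zv a b : SG s), t * e * t⁻¹⁆ = 1 := Z_R (by simp) (by rwa [conj_a1])
        have k3 : ⁅(zv a b * w8 0 c.u8 : SG s), t * e * t⁻¹⁆ = 1 := by
          rw [← ht, ← conjugate_commutatorElement, hc]; group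
        rw [commutatorElement_eq_one_iff_commute] at k1 k3 ⊢
        simpa only [inv_mul_cancel_left] using k1.inv_left.mul_left k3)
    have m1 := k k1 k2 hc
    have m2 := k l1 l2 hc'
    exact conj_eq_one_iff.1 ((conjugate_commutatorElement e e' t).trans (Vm_comm m1 m2)))
  obtain ⟨h5, h7⟩ := inv_Z5 h2 h1 h8
  have hu : c.u2 = 0 := by_contra fun hu => hn (by
    have h7 := (mul_eq_zero.1 h7).resolve_right hu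
    have k : ∀ {e : SG s}, e.a1 = 0 → e * e = 1 → ⁅c, e⁆ = 1 → e ∈ Vs s := fun {e} k1 k2 hc => by
      have m8 : e.u8 = 0 := by
        simpa [mem_Z5s.1 h5, h7, k1, inv_a2 k2 k1, inv_a8 k2, hu] using congrArg SG.a5 hc
      have m5 := mem_Z5s.1 (inv_Z5 k2 k1 m8).1
      have m7 : e.a7 = 0 := by simpa [mem_Z5s.1 h5, h7, m5, hu] using congrArg SG.u4 hc
      simp [m5, m7]
    exact commutatorElement_eq_one_iff_mul_comm.2 (Y_comm_V (Vs_le_Ys (k k1 k2 hc)) (k l1 l2 hc')))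
  simp [mem_Z5s.1 h5, hu]

theorem eR (h : Es E) (h6 : Z6s s ≤ E) (hR : E ≤ Rs s) : E = Rs s := by
  have hW := W_Ph6 h6
  have hM : M1s s ≤ Z6s s := fun _ h => by simp_all
  have h1 : R1s s ≤ E := st_R1 h6 one_ne_zero fun c => ⟨w8 0 c, h.ch1 pg_SG (Iv.inv ⊤) (fun x hx =>
    have : ⁅(w8 0 c : SG s), x⁆ ∈ M1s s := by simp [mem_Rs.1 (hR hx)]
    ⟨h6 (hM this), M1_inv this⟩) fun y ⟨hy, h2⟩ => hW (by
      simp [mem_Rs.1 (hR hy), inv_a8 h2, inv_a2 h2 (hR hy)]), by simp, by simp⟩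
  have i2 := (Iv.inv (⊤ : Subgroup (MulAut E))).nab (Iv.inv ⊤)
  have i1 := (Iv.top ⊤).pre i2 (fun _ _ x y => x * y) fun _ _ _ _ f x y => map_mul f x y
  refine le_antisymm hR fun g hg => ?_
  have hg1 : g.a1 = 0 := hg
  have k : ∀ c ∈ M1s s, (c ∈ E ∧ c * c = 1) ∧ ∃ e ∈ {c | c ∈ E ∧ c * c = 1},
      ∃ e' ∈ {c | c ∈ E ∧ c * c = 1}, ⁅c, e⁆ = 1 ∧ ⁅c, e'⁆ = 1 ∧ ⁅e, e'⁆ ≠ 1 := fun c hc => ⟨⟨h6 (hM hc), M1_inv hc⟩, by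
    by_cases h7 : c.a7 = 0
    · exact ⟨w2 0 1, ⟨h6 (by simp), V_sq (by simp)⟩, x7 1, ⟨h6 (by simp), M1_inv (by simp)⟩,
        by ext <;> simp [mem_M1s.1 hc, h7], M1_comm hc (by simp), fun k => by simpa using congrArg SG.u4 k⟩
    · obtain ⟨t, ht⟩ := s.σ_surj (c.a3 / c.a7)
      have e : (x1 t * w8 0 1 * (x1 t)⁻¹ : SG s) =
          ⟨0, 0, t * s.σ t, t * s.σ t, s.σ t, t ^ 2 * s.σ t, t * s.σ t, t, 0, t, 0, 1⟩ := by ext <;> simp <;> grind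
      refine ⟨x1 t * w8 0 1 * (x1 t)⁻¹, ⟨h1 (by simp; grind), sq_cj (by ext <;> simp <;> grind) _⟩, x3 1,
        ⟨h6 (by simp), M1_inv (by simp)⟩, ?_, M1_comm hc (by simp), fun k => by simpa [e] using congrArg SG.u6 k⟩
      rw [e]
      ext <;> simp [mem_M1s.1 hc] <;> grind⟩
  have k' : ∀ c, (c ∈ E ∧ c * c = 1) ∧ (∃ e ∈ {c | c ∈ E ∧ c * c = 1}, ∃ e' ∈ {c | c ∈ E ∧ c * c = 1},
      ⁅c, e⁆ = 1 ∧ ⁅c, e'⁆ = 1 ∧ ⁅e, e'⁆ ≠ 1) → c ∈ M1s s := fun c ⟨⟨h1, h2⟩, e, he, e', he', k1, k2, k3⟩ =>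
    nab_M1 (hR h1) h2 (hR he.1) he.2 (hR he'.1) he'.2 k1 k2 k3
  refine h.ch2 pg_SG i1 i2 (fun x hx => ?_) (fun y ⟨hy, h2⟩ => k _ ?_) fun y hy => hW ?_
  · have : ⁅g, x⁆ ∈ R1s s := by simp [hg1, mem_Rs.1 (hR hx)]
    refine ⟨h1 this, k _ ?_⟩
    generalize ⁅g, x⁆ = z at this
    simp [mem_R1s.1 this]; grind
  · have := k' _ h2
    have k1 : y.a1 = 0 := hR hy
    have k8 : y.a8 = 0 := by simpa [CharTwo.add_self_eq_zero, add_assoc] using this.2.2.2.2.2.2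
    have k2 : y.a2 = 0 := by simpa [CharTwo.add_self_eq_zero, k1] using this.2.2.1
    simp [hg1, k1, k2, k8]
  · simp [hg1, mem_M1s.1 (k' y hy)]

end Cfsg.Agent.Oc
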