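import Mathlib
import Cfsg.Agent.Oc.E5

/-! The essential subgroups are `Q` and `R`. -/

set_option autoImplicit false
set_option linter.unusedSectionVars false

namespace Cfsg.Agent.Oc

open Cfsg.Agent.Og SG Subgroup
open scoped commutatorElement

variable {K : Type*} [Field K] [CharP K 2] [Finite K] {s : Sg K} {E : Subgroup (SG s)}

theorem W_le_Z6 : Ws s ≤ Z6s s := fun _ h => by simp_all

theorem Z6_sq {c : SG s} (hc : c ∈ Z6s s) : c * c ∈ Ws s ∧ (c * c).a5 = c.a4 * c.a6 := by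
  simp [mem_Z6s.1 hc]; grind

theorem Z7_sq {c : SG s} (hc : c ∈ Z7s s) :
    c * c ∈ Z5s s ∧ (c * c).u2 = c.a2 * s.σ c.a2 ∧ (c * c).a7 = c.a2 * c.u8 := by
  simp [mem_Z7s.1 hc]; grind

theorem Z5_sq {c : SG s} (hc : c ∈ Z5s s) : c * c ∈ Xs s := by simp [mem_Z5s.1 hc]; grind

theorem Z_X {g : SG s} (hg : g ∈ Zs s) (x : SG s) : ⁅g, x⁆ ∈ Xs s := by simp_all

theorem Z7_Z6 {g : SG s} (hg : g ∈ Z7s s) (x : SG s) : ⁅g, x⁆ ∈ Z6s s := by simp_all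

theorem cm3_u2 {z e : SG s} (hz : z ∈ Z5s s) (h8 : e.a8 ≠ 0) (h : ⁅⁅⁅z, e⁆, e⁆, e⁆ = 1) :
    z.u2 * e.a8 + z.a7 * s.σ e.a1 = 0 := by
  have k1 : ⁅z, e⁆ ∈ Z4s s ∧ ⁅z, e⁆.a3 = z.u2 * e.a8 + z.a7 * s.σ e.a1 := by simp [mem_Z5s.1 hz]; grind
  generalize ⁅z, e⁆ = y at h k1
  have k2 : ⁅y, e⁆ ∈ Ws s ∧ ⁅y, e⁆.a5 = y.a3 * s.σ e.a8 := by simp [mem_Z4s.1 k1.1]
  generalize ⁅y, e⁆ = x at h k2
  simpa [mem_Ws.1 k2.1, k2.2, k1.2, h8] using congrArg SG.u6 h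

theorem four_Z7 {c : SG s} (hc : c ∈ Z7s s) (h : c * c * (c * c) = 1) : c.a2 * c.u8 = 0 := by
  obtain ⟨k1, k2, k3⟩ := Z7_sq hc
  have := (inv_Z5 h k1.1 k1.2.2.2.2.2).2
  rw [k2, k3] at this
  simp at this ⊢
  tauto

theorem iv_Z7 (h6 : Z6s s ≤ E) {e f : SG s} (he : e ∈ E) (h1 : e.a1 ≠ 0) (hf : f ∈ E) (h8 : f.a8 ≠ 0) {D : Set (SG s)}
    (iD : Iv (⊤ : Subgroup (MulAut E)) D) (kD : ∀ z ∈ Ws s, z ∈ D) (kD' : ∀ z ∈ D, ∀ e ∈ E, ⁅⁅⁅z, e⁆, e⁆, e⁆ = 1) :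
    Iv (⊤ : Subgroup (MulAut E)) {c | c ∈ E ∧ c ∈ Z7s s} := by
  have i0 := Iv.top (⊤ : Subgroup (MulAut E))
  have i1 : Iv (⊤ : Subgroup (MulAut E)) {c | (c ∈ E ∧ c * c * (c * c) * (c * c * (c * c)) = 1) ∧
      ∀ x ∈ E, ⁅c, x⁆ * ⁅c, x⁆ ∈ D} :=
    (i0.pre1 (fun _ _ x y => x * y * (x * y) * (x * y * (x * y))) fun _ _ _ _ f x y => by simp).all i0 iD
      (fun _ _ x y => ⁅x, y⁆ * ⁅x, y⁆) fun _ _ _ _ f x y => by simp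
  refine i1.congr fun c => ⟨fun ⟨hE, hc⟩ => ⟨⟨hE, V_sq (Xs_le_Vs (Z5_sq (Z7_sq hc).1))⟩,
    fun x _ => kD _ (Z6_sq (Z7_Z6 hc x)).1⟩, fun ⟨⟨hE, h4⟩, hc⟩ => ⟨hE, ?_⟩⟩
  have m := four_Z7 (c := c * c) (by simp; grind) h4
  have m8 : c.a8 = 0 := by_contra fun k => by
    have m1 : c.a1 = 0 := by simpa [CharTwo.add_self_eq_zero, k] using m
    obtain ⟨l1, l2, -⟩ := Z7_sq (c := ⁅c, e⁆) (by simp)
    have := cm3_u2 l1 k (kD' _ (hc e he) c hE)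
    rw [l2] at this
    simp [m1, k, h1] at this
  obtain ⟨l1, l2, l3⟩ := Z7_sq (c := ⁅c, f⁆) (by simp)
  have := cm3_u2 l1 h8 (kD' _ (hc f hf) f hf)
  rw [l2, l3] at this
  simpa [m8, h8] using this

theorem e6_a (h : Es E) (h6 : Z6s s ≤ E) {e f : SG s} (he : e ∈ E) (h1 : e.a1 ≠ 0) (hf : f ∈ E) (h8 : f.a8 ≠ 0) :
    False := by
  have h5 : Z5s s ≤ Ph E := st_Z5V (st_V (Z4_Ph_a8 (Z5_le_Z6.trans h6) hf h8) h1 fun c =>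
    ⟨⁅w4 c 0, e⁆, cm_Ph (h6 (by simp)) he, by simp, by simp [mul_comm]⟩) h8 fun c =>
    ⟨⁅w6 c 0, f⁆, cm_Ph (h6 (by simp)) hf, by simp, by simp [mul_comm]⟩
  have i0 := Iv.top (⊤ : Subgroup (MulAut E))
  obtain ⟨D, iD, kD, kD'⟩ : ∃ D : Set (SG s), Iv (⊤ : Subgroup (MulAut E)) D ∧ (∀ z ∈ Ws s, z ∈ D) ∧
      ∀ z ∈ D, ∀ e ∈ E, ⁅⁅⁅z, e⁆, e⁆, e⁆ = 1 :=
    ⟨_, i0.all1 i0 (fun _ _ x y => ⁅⁅⁅x, y⁆, y⁆, y⁆) fun _ _ _ _ f x y => by simp, fun z hz =>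
      ⟨h6 (W_le_Z6 hz), fun e _ => X_comm (Z_X (W_Z hz e) e) e⟩, fun z hz => hz.2⟩
  have i1 := iv_Z7 h6 he h1 hf h8 iD kD kD'
  have i2 := (((i1.pre1 _ wd4).pre iD (fun _ _ x y => x * y) fun _ _ _ _ f x y => map_mul f x y).all i0
      (i0.cent i0) (fun _ _ x y => ⁅x, y⁆ * ⁅x, y⁆) fun _ _ _ _ f x y => by simp).congr
      (Y := {c | (((c ∈ E ∧ c ∈ Z7s s) ∧ c * c * (c * c) = 1) ∧ c * c ∈ D) ∧
      ∀ x ∈ E, ⁅c, x⁆ * ⁅c, x⁆ ∈ E ∧ ∀ y ∈ E, ⁅⁅c, x⁆ * ⁅c, x⁆, y⁆ = 1}) fun c => by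
        simp only [Set.mem_setOf_eq, SetLike.mem_coe]
  have i6 : Iv (⊤ : Subgroup (MulAut E)) (Z6s s) := i2.congr fun c => ⟨fun hc =>
    have k1 : c ∈ Z6s s := hc
    have k2 := (Z6_sq k1).1
    ⟨⟨⟨⟨h6 k1, k1.1, k1.2.2.1⟩, W_inv k2⟩, kD _ k2⟩, fun x _ =>
      have := Z5_sq (Z6_Z5 k1 x)
      ⟨X_le h this, fun y _ => X_comm this y⟩⟩,
    fun ⟨⟨⟨⟨_, h7⟩, h4⟩, h2⟩, k⟩ => by
      obtain ⟨l1, l2, l3⟩ := Z7_sq h7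
      have m2 : c.a2 = 0 := by
        have := cm3_u2 l1 h8 (kD' _ h2 f hf)
        rw [l2, l3, four_Z7 h7 h4] at this
        simpa [h8] using this
      obtain ⟨n1, n2⟩ := Z6_sq (Z7_Z6 h7 e)
      have := congrArg SG.u6 ((k e he).2 f hf)
      have n3 : ⁅c, e⁆.a4 * ⁅c, e⁆.a6 = 0 := by
        rw [← n2]
        generalize ⁅c, e⁆ * ⁅c, e⁆ = z at n1 this
        simpa [mem_Ws.1 n1, h8] using this
      simpa [mem_Z7s.1 h7, m2, h1] using n3⟩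
  obtain ⟨g, hg, hn⟩ := h.exists_notMem pg_SG
  exact hg (h.ch2 pg_SG i1 i6 (fun x hx => ⟨hn x hx, by simp⟩) (fun y hy => cm_swap (Z7_Z6 hy.2 g))
    fun c hc => h5 (cm_swap (Z6_Z5 hc g)))

theorem e6_b (h : Es E) (h6 : Z6s s ≤ E) (h8 : ∀ x ∈ E, x.a8 = 0) {e f : SG s} (he : e ∈ E) (h1 : e.a1 ≠ 0)
    (hf : f ∈ E) (hu : f.u8 ≠ 0) : False := by
  have h5 := Z5_le_Z6.trans h6
  have hV : Vs s ≤ Ph E := st_V (Z4_Ph_a1 h5 (W_Ph_u8 h5 hf (h8 f hf) hu) he h1) h1 fun c =>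
    ⟨⁅w4 c 0, e⁆, cm_Ph (h6 (by simp)) he, by simp, by simp [mul_comm]⟩
  have i0 := Iv.top (⊤ : Subgroup (MulAut E))
  have iA := (i0.pre1 _ wd4).cm2 i0
  have kV : ∀ c ∈ Z6s s, ∀ x : SG s, x.a8 = 0 → ⁅c, x⁆ ∈ Vs s := fun c hc x hx => by simp [mem_Z6s.1 hc, hx]
  have kA : ∀ c ∈ Z6s s, (c ∈ E ∧ c * c * (c * c) = 1) ∧ ∀ x ∈ E, ⁅c, x⁆ * ⁅c, x⁆ = 1 := fun c hc =>
    ⟨⟨h6 hc, W_inv (Z6_sq hc).1⟩, fun x hx => V_sq (kV c hc x (h8 x hx))⟩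
  have kA' : ∀ c : SG s, (c ∈ E ∧ c * c * (c * c) = 1) ∧ (∀ x ∈ E, ⁅c, x⁆ * ⁅c, x⁆ = 1) → c ∈ QRs s :=
    fun c ⟨⟨hE, h4⟩, hc⟩ => by
      have k : ∀ x ∈ E, c.a1 * x.u8 + c.u8 * x.a1 = 0 := fun x hx => by
        simpa [h8 c hE, h8 x hx] using (inv_u2 (hc x hx) (by simp) (by simp [h8 c hE, h8 x hx])).2
      have m : c.a1 * c.u8 = 0 := by
        simpa [h8 c hE, CharTwo.add_self_eq_zero, mul_comm] using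
          (inv_u2 h4 (by simp; grind) (by simp [h8 c hE]; grind)).2
      have m1 : c.a1 = 0 := by_contra fun k' => by
        simpa [(mul_eq_zero.1 m).resolve_left k', k', hu] using k f hf
      exact ⟨m1, h8 c hE, by simpa [m1, h1] using k e he⟩
  have i6 : Iv (⊤ : Subgroup (MulAut E)) (Z6s s) := (iA.cmm i0 (i0.cmm iA (i0.cent i0))).congr fun c =>
    ⟨fun hc => ⟨kA c hc, fun x hx => ⟨cm_mem (h6 hc) hx, fun y hy =>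
      have := cm_swap (comm_mem_X (p := y) (kA' y hy).2 (kV c hc x (h8 x hx)))
      ⟨X_le h this, fun z _ => X_comm this z⟩⟩⟩, fun ⟨hc, k⟩ => by
      have m := kA' c hc
      have l1 : ⁅c, f⁆ ∈ Z5s s ∧ ⁅c, f⁆.a7 = c.a2 * f.u8 := by simp [mem_QRs.1 m, h8 f hf]
      have := congrArg SG.u4 (((k f hf).2 (w4 1 0) (kA _ (by simp))).2 e he)
      generalize ⁅c, f⁆ = z at l1 this
      have l2 : ⁅z, (w4 1 0 : SG s)⁆ = w6 0 z.a7 := by ext <;> simp [mem_Z5s.1 l1.1]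
      rw [l2, l1.2] at this
      simpa [mem_QRs.1 m, h1, hu] using this⟩
  have hE : Q8s s ≤ E := fun g hg => h.ch1 pg_SG i6 (fun x hx => show _ ∈ Z6s s by simp [mem_Q8s.1 hg, h8 x hx])
    fun y hy => hV (cm_swap (kV y hy g hg))
  have iI := (Iv.inv ⊤).inter i6
  have i7 := i0.cent ((iI.cent iI).img i0 _ Iv.wd_cm)
  have : w8 1 0 ∈ E := h.ch2 pg_SG i7 i6 (fun x hx => ⟨hE (by simp), ?_⟩) (fun y ⟨hy, k⟩ => cm_swap (Z7_Z6 ⟨?_, h8 y hy⟩ _))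
    fun y hy => st_Z5V hV one_ne_zero (fun c => ⟨⁅w2 c 0, w8 0 1⁆, cm_Ph (hE (by simp)) (hE (by simp)), by simp,
      by simp⟩) (cm_swap (Z6_Z5 hy _))
  · simpa using h8 _ this
  · rintro _ ⟨z, ⟨⟨⟨-, k2⟩, k6⟩, k⟩, y, hy, rfl⟩
    have k5 := mem_Z5s.1 (inv_Z5 k2 k6.1 k6.2.2.2).1
    have m2 : z.u2 = 0 := by
      simpa [k5] using congrArg SG.u4 (k (x7 1) ⟨⟨hE (by simp), M1_inv (by simp)⟩, show _ ∈ Z6s s by simp⟩)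
    have m7 : z.a7 = 0 := by
      simpa [k5] using congrArg SG.u4 (k (w2 0 1) ⟨⟨hE (by simp), V_sq (by simp)⟩, show _ ∈ Z6s s by simp⟩)
    exact cm_one_swap (Z_R (by simp [k5, m2, m7, h8 y hy]) (by simp))
  · have m : ∀ {z : SG s}, z ∈ Z6s s → z * z = 1 → ⁅(x3 1 : SG s), z⁆ = 1 := fun {z} hz k2 => by
      ext <;> simp [mem_Z5s.1 (inv_Z5 k2 hz.1 hz.2.2.2).1]
    have := k _ ⟨x3 1, ⟨⟨⟨hE (by simp), V_sq (by simp)⟩, show _ ∈ Z6s s by simp⟩, fun z hz => m hz.2 hz.1.2⟩,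
      w8 0 1, hE (by simp), rfl⟩
    rw [show ⁅(x3 1 : SG s), (w8 0 1 : SG s)⁆ = w6 0 1 by ext <;> simp] at this
    simpa [h8 y hy] using congrArg SG.u4 this

theorem ess_cases (h : Es E) : E = Qs s ∨ E = Rs s := by
  have h4 := e3 h (e2 h (e1 h))
  by_cases hQ : E ≤ Qs s
  · exact .inl (eQ h h4 hQ)
  have h6 := e5 h (e4 h h4 hQ) hQ
  by_cases h1 : ∃ e ∈ E, e.a1 ≠ 0
  · obtain ⟨e, he, h1⟩ := h1
    by_cases h8 : ∃ f ∈ E, f.a8 ≠ 0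
    · obtain ⟨f, hf, h8⟩ := h8
      exact (e6_a h h6 he h1 hf h8).elim
    push Not at h8
    obtain ⟨f, hf, hu⟩ := exists_u8 h8 hQ
    exact (e6_b h h6 h8 he h1 hf hu).elim
  push Not at h1
  exact .inr (eR h h6 h1)

end Cfsg.Agent.Oc
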