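import Mathlib
import Cfsg.Agent.Oc.Kit

/-! Normal subgroups with a rank one structure on the automorphism group. -/

set_option autoImplicit false
set_option linter.unusedSectionVars false

namespace Cfsg.Agent.Oc

open Subgroup Cfsg.FusionSystem Cfsg.Agent.Fus
open scoped commutatorElement Pointwise

universe u

variable {Ω : Type u} [Group Ω] [Finite Ω] {P : Subgroup Ω}

theorem exists_mkA {f : Ω → Ω} (hf : MulOn P f) (hm : ∀ x ∈ P, f x ∈ P) (hi : ∀ x ∈ P, f x = 1 → x = 1) :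
    ∃ α : MulAut P, ∀ x ∈ P, totA α x = f x := by
  let g : P →* P := hf.hom.codRestrict P fun x => hm x x.2
  have : Function.Injective g := (injective_iff_map_eq_one _).2 fun x e => Subtype.ext (hi x x.2 (congrArg Subtype.val e))
  exact ⟨MulEquiv.ofBijective g (Finite.injective_iff_bijective.1 this), fun x hx => totA_apply _ hx⟩

theorem nm [h : P.Normal] (s : Ω) : s ∈ normalizer (P : Set Ω) := normalizer_eq_top P ▸ mem_top s

theorem cA_mem [P.Normal] (F : FusionSystem (⊤ : Subgroup Ω)) (s : Ω) : cAut P s ∈ F.autGroup P :=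
  F.cAut_mem_autGroup le_top ⟨mem_top s, nm s⟩

/-- The elements moved into their own coset. -/
def mv (α : MulAut P) (N : Subgroup Ω) [hN : N.Normal] : Subgroup Ω where
  carrier := {x | x ∈ P ∧ x⁻¹ * totA α x ∈ N}
  one_mem' := ⟨one_mem _, by simp [(mulOn_totA α).map_one]⟩
  mul_mem' := fun {x y} hx hy => ⟨mul_mem hx.1 hy.1, by
    have := mul_mem (hN.conj_mem _ hx.2 y⁻¹) hy.2
    rw [mulOn_totA α x hx.1 y hy.1]
    convert this using 1; group⟩
  inv_mem' := fun {x} hx => ⟨inv_mem hx.1, by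
    have := inv_mem (hN.conj_mem _ hx.2 x)
    rw [(mulOn_totA α).map_inv hx.1]
    convert this using 1; group⟩

theorem mem_mv {α : MulAut P} {N : Subgroup Ω} [N.Normal] {x : Ω} :
    x ∈ mv α N ↔ x ∈ P ∧ x⁻¹ * totA α x ∈ N := Iff.rfl

/-- The stabilizer of the chain `P ≥ N ≥ M`. -/
def K0 (P N M : Subgroup Ω) : Subgroup (MulAut P) :=
  chainStab P (fun i => if i = 0 then P else if i = 1 then N else M) 2

variable {N M U : Subgroup Ω} {C : ℕ → Subgroup Ω} {n : ℕ} {ν : MulAut P}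

theorem mem_K0 (hN : N ≤ P) (hM : M ≤ N) {α : MulAut P} :
    α ∈ K0 P N M ↔ (∀ x ∈ P, x⁻¹ * totA α x ∈ N) ∧ ∀ x ∈ N, x⁻¹ * totA α x ∈ M :=
  ⟨fun h => ⟨fun x hx => (mem_secStab.1 (mem_chainStab.1 h 0 (by norm_num))).2 x hx hx,
    fun x hx => (mem_secStab.1 (mem_chainStab.1 h 1 (by norm_num))).2 x hx (hN hx)⟩,
    fun h => mem_chainStab_of le_rfl (fun i hi => by interval_cases i; exacts [hN, hM])
      fun i hi => by interval_cases i; exacts [h.1, h.2]⟩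

theorem K0_normal (hN : InvA (⊤ : Subgroup (MulAut P)) N) (hM : InvA (⊤ : Subgroup (MulAut P)) M) :
    (K0 P N M).Normal :=
  ⟨fun _ hα l => conj_mem_chainStab hα fun i hi => by
    interval_cases i
    exacts [(invA_top ⊤).le_stabA (mem_top l), hN.le_stabA (mem_top l), hM.le_stabA (mem_top l)]⟩

theorem pg_K0 (hΩ : IsPGroup 2 Ω) (hM : M ≤ Ph P) : IsPGroup 2 (K0 P N M) :=
  isPGroup_chainStab (hΩ.to_subgroup _) rfl hM

/-- The stabilizer of all members of a chain. -/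
def Bs (P : Subgroup Ω) (C : ℕ → Subgroup Ω) (n : ℕ) : Subgroup (MulAut P) := ⨅ i, ⨅ _ : i ≤ n, stabA P (C i)

theorem mem_Bs {α : MulAut P} : α ∈ Bs P C n ↔ ∀ i ≤ n, α ∈ stabA P (C i) := by simp only [Bs, mem_iInf]

/-- A chain centralized by the whole group. -/
structure Ch (P : Subgroup Ω) (C : ℕ → Subgroup Ω) (n : ℕ) : Prop where
  pg : IsPGroup 2 Ω
  h0 : C 0 = P
  hn : C n ≤ Ph P
  anti : ∀ i < n, C (i + 1) ≤ C i
  nC : ∀ i ≤ n, (C i).Normal
  st : ∀ i < n, ∀ s, ∀ x ∈ C i, ⁅x, s⁆ ∈ C (i + 1)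

/-- The rank one structure. -/
structure Rk (P : Subgroup Ω) (C : ℕ → Subgroup Ω) (n : ℕ) (N U : Subgroup Ω) (ν : MulAut P) : Prop
    extends Ch P C n where
  iN : InvA (⊤ : Subgroup (MulAut P)) N
  iC : InvA (⊤ : Subgroup (MulAut P)) (C n)
  hN : C n ≤ N
  g1 : ∀ γ, γ ∈ Bs P C n ∨ ∃ u, ν * cAut P u * γ ∈ Bs P C n
  g2 : ∀ ζ ∈ chainStab P C n, ∃ y ∈ U, cAut P y * ζ ∈ K0 P N (C n)
  inn : Inn P ≤ K0 P N (C n)
  nt : ∃ y, cAut P y ∉ K0 P N (C n)
  kb : K0 P N (C n) ≤ Bs P C n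

namespace Ch

variable (h : Ch P C n) {F F' : FusionSystem (⊤ : Subgroup Ω)}
include h

theorem nP : P.Normal := h.h0 ▸ h.nC 0 (Nat.zero_le _)

theorem le {i : ℕ} (hi : i ≤ n) : C i ≤ P := by
  induction i with
  | zero => exact h.h0.le
  | succ i ih => exact (h.anti i hi).trans (ih (by omega))

theorem st' {i : ℕ} (hi : i < n) (s : Ω) {x : Ω} (hx : x ∈ C i) : x⁻¹ * (s * x * s⁻¹) ∈ C (i + 1) :=
  comm_mem_iff_conj (g := s) (x := x) ▸ h.st i hi s _ (inv_mem hx)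

theorem c_cs (s : Ω) : cAut P s ∈ chainStab P C n :=
  have := h.nP
  mem_chainStab_of h.h0.le h.anti fun i hi x hx => totA_cAut (nm s) (h.le hi.le hx) ▸ h.st' hi s hx

theorem c_B (s : Ω) : cAut P s ∈ Bs P C n :=
  have := h.nP
  mem_Bs.2 fun i hi => mem_stabA_of_maps (h.le hi) fun x hx =>
    totA_cAut (nm s) (h.le hi hx) ▸ (h.nC i hi).conj_mem x hx s

theorem fn (F : FusionSystem (⊤ : Subgroup Ω)) : F.IsFullyNormalized P :=
  have := h.nP
  F.isFullyNormalized_of_le_normalizer le_top fun s _ => nm s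

theorem le_aut (hF : F.IsSaturated 2) : chainStab P C n ⊓ F.autGroup P ≤ autInducedBy ⊤ P :=
  (hF.fullyAutomized (h.pg.to_subgroup _) (h.fn F)).le_of_isPGroup (h.pg.to_subgroup _)
    ((isPGroup_chainStab (h.pg.to_subgroup _) h.h0 h.hn).to_le inf_le_left) inf_le_right
    (le_inf (fun _ hα => by obtain ⟨s, -, rfl⟩ := mem_autInducedBy_iff_cAut.1 hα; exact h.c_cs s)
      (F.autInducedBy_le_autGroup le_top))

theorem extend (hF : F.IsSaturated 2) {k : MulAut P} (hk : k ∈ F.autGroup P) (hB : k ∈ Bs P C n) :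
    ∃ τ, F.Iso ⊤ ⊤ τ ∧ ∀ x ∈ P, τ x = totA k x := by
  have := h.nP
  obtain ⟨g, hg, e⟩ := (hF.receptive_of_fullyNormalized (h.pg.to_subgroup _) (h.fn F)).extend_of_aut
    (iso_totA le_top hk) (R := ⊤) (fun s hs => ⟨hs, nm s⟩) fun s _ => by
      rw [← (iso_totA le_top hk).eq_autCongr (β := k * cAut P s * k⁻¹) fun x hx => by
        rw [totA_mul _ _ (totA_mem k hx), totA_inv_totA _ hx, totA_mul _ _ hx]]
      exact h.le_aut hF ⟨conj_mem_chainStab (h.c_cs s) (mem_Bs.1 hB),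
        mul_mem (mul_mem hk (cA_mem F s)) (Subgroup.inv_mem _ hk)⟩
  exact ⟨g, (hg.mono le_sup_right).iso_top, e⟩

theorem mover (hF : F.IsSaturated 2) (hE : F.IsEssential 2 P) : ∃ γ ∈ F.autGroup P, γ ∉ Bs P C n := by
  by_contra k
  push Not at k
  obtain ⟨s, hs, h1⟩ := hE.exists_notMem hF (h.pg.to_subgroup _)
  exact h1 (hE.mem_of_chain (h.pg.to_subgroup _) C n h.h0 h.hn h.anti (fun i hi => ⟨h.le hi, fun α hα x hx =>
    (mem_Bs.1 (k α hα) i hi x (h.le hi hx)).2 hx⟩) hs fun i hi x hx => h.st' hi s hx)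

end Ch

namespace Rk

variable (h : Rk P C n N U ν) {F F' : FusionSystem (⊤ : Subgroup Ω)}
include h

theorem nK : (K0 P N (C n)).Normal := K0_normal h.iN h.iC

theorem pK : IsPGroup 2 (K0 P N (C n)) := pg_K0 h.pg h.hn

theorem gen_le (hF : F.IsSaturated 2) (hS : ∀ f, F.Iso ⊤ ⊤ f → F'.Mor ⊤ f) (hν : ν ∈ F.autGroup P)
    (hν' : ν ∈ F'.autGroup P) : F.autGroup P ≤ F'.autGroup P := by
  have := h.nP
  have key : ∀ k ∈ F.autGroup P, k ∈ Bs P C n → k ∈ F'.autGroup P := fun k hk hA => by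
    obtain ⟨τ, hτ, e⟩ := h.extend hF hk hA
    exact (mem_autGroup_iff le_top).2 (((hS τ hτ).mono le_top).congr e)
  intro γ hγ
  rcases h.g1 γ with k | ⟨u, k⟩
  · exact key γ hγ k
  · exact (mul_mem_cancel_left (mul_mem hν' (cA_mem F' u))).1 (key _ (mul_mem (mul_mem hν (cA_mem F u)) hγ) k)

theorem inf_le (hE : F.IsEssential 2 P) : F.autGroup P ⊓ K0 P N (C n) ≤ Inn P :=
  (hE.isRadical (h.pg.to_subgroup _)).le_inn inf_le_left (fun l hl => mem_normalizer_fintype fun _ hα =>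
    mem_inf.2 ⟨mul_mem (mul_mem hl hα.1) (inv_mem hl), h.nK.conj_mem _ hα.2 l⟩) (h.pK.to_le inf_le_right)

/-- A conjugate of a nontrivial root automorphism. -/
theorem exists_root (hF : F.IsSaturated 2) (hE : F.IsEssential 2 P) :
    ∃ y ∈ U, y ≠ 1 ∧ ν⁻¹ * cAut P y * ν ∈ F.autGroup P ⊔ K0 P N (C n) := by
  have := h.nP
  have := h.nK
  obtain ⟨w, hw, hB⟩ := h.mover hF hE
  obtain ⟨u, hu⟩ := (h.g1 w).resolve_left hB
  obtain ⟨y0, h0⟩ := h.nt
  obtain ⟨y, hy, k⟩ := h.g2 _ (conj_mem_chainStab (h.c_cs y0⁻¹) (mem_Bs.1 hu))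
  refine ⟨y, hy, fun e => h0 ?_, ?_⟩
  · rw [e, cAut_one, one_mul, cAut_inv (nm y0)] at k
    simpa [mul_assoc] using inv_mem (h.nK.conj_mem _ k (ν * cAut P u * w)⁻¹)
  · have k1 := mul_mem (cA_mem F u) hw
    have := mul_mem (mem_sup_right (S := F.autGroup P) (h.nK.conj_mem _ k ν⁻¹))
      (mem_sup_left (inv_mem (mul_mem (mul_mem k1 (cA_mem F y0⁻¹)) (inv_mem k1))))
    convert this using 1; group

end Rk

theorem adjust {A : Type*} [Group A] [Finite A] {Γ K I H : Subgroup A} [hK : K.Normal] [hI : I.Normal]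
    (pK : IsPGroup 2 K) (h1 : Γ ⊓ K ≤ I) (h2 : I ≤ K) (h3 : I ≤ Γ) (h4 : H ≤ Γ) (ho : Odd (Nat.card H)) {ν : A}
    (hν : ν ∈ Γ ⊔ K) (hn : ∀ x ∈ H, ν * x * ν⁻¹ ∈ H) (hc : ∀ ξ ∈ K, (∀ x ∈ H, ξ * x = x * ξ) → ξ = 1) : ν ∈ Γ := by
  obtain ⟨w, hw, κ, hκ, rfl⟩ := mem_sup_of_normal_right.1 hν
  have co : ∀ {J : Subgroup A}, J ≤ K → (Nat.card J).Coprime (Nat.card H) := fun hJ => by
    obtain ⟨k, hk⟩ := IsPGroup.iff_card.1 (pK.to_le hJ)
    exact hk ▸ (Nat.coprime_two_left.2 ho).pow_left k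
  obtain ⟨a, ha, e⟩ := GT.conj_le_of_coprime_le_sup I H (MulAut.conj w • H) (by rw [normalizer_eq_top]; exact le_top)
    (co h2) (Nat.card_congr (equivSMul (MulAut.conj w) H).toEquiv ▸ co h2) (by
      rintro _ ⟨x, hx, rfl⟩
      have k : w * x * w⁻¹ * (w * κ * x * (w * κ)⁻¹)⁻¹ ∈ I := h1 <| mem_inf.2 ⟨mul_mem (mul_mem (mul_mem hw (h4 hx)) (inv_mem hw))
        (inv_mem (h4 (hn x hx))), by
          have := hK.conj_mem _ (mul_mem (hK.conj_mem _ hκ x) (inv_mem hκ)) w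
          convert this using 1; group⟩
      change w * x * w⁻¹ ∈ _
      simpa only [inv_mul_cancel_right] using mul_mem (mem_sup_left k) (mem_sup_right (hn x hx) : _ ∈ I ⊔ H))
    (.inl (have := (pK.to_le h2).isNilpotent; inferInstance))
  have hξ : (a * w)⁻¹ * (w * κ) ∈ K := by
    have := mul_mem (hK.conj_mem _ (inv_mem (h2 ha)) w⁻¹) hκ
    convert this using 1; group
  have e' : ∀ x ∈ H, a * w * x * (a * w)⁻¹ ∈ H := fun x hx => by
    have := e (smul_mem_pointwise_smul _ _ _ (smul_mem_pointwise_smul x (MulAut.conj w) H hx))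
    simpa [mul_assoc] using this
  have e'' : ∀ x ∈ H, (a * w)⁻¹ * x * (a * w) ∈ H := fun x hx => by
    simpa using (mem_normalizer_iff.1 (inv_mem (mem_normalizer_fintype e')) x).1 hx
  have := hc _ hξ fun x hx => by
    have k : (a * w)⁻¹ * (w * κ) * x * ((a * w)⁻¹ * (w * κ))⁻¹ * x⁻¹ ∈ K ⊓ H := mem_inf.2 ⟨by
      have := mul_mem hξ (hK.conj_mem _ (inv_mem hξ) x)
      convert this using 1; group, mul_mem (by
        have := e'' _ (hn x hx)
        convert this using 1; group) (inv_mem hx)⟩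
    rw [inf_eq_bot_of_coprime (co le_rfl), mem_bot, mul_inv_eq_one, mul_inv_eq_iff_eq_mul] at k
    exact k
  exact inv_mul_eq_one.1 this ▸ mul_mem (h3 ha) hw

end Cfsg.Agent.Oc
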