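import Mathlib
import Cfsg.Agent.Oc.E6
import Cfsg.Agent.Oc.Gen

/-! The rank one structure on the automorphism group of `Q`. -/

set_option autoImplicit false
set_option linter.unusedSectionVars false

namespace Cfsg.Agent.Oc

open Cfsg.Agent.Og SG Subgroup Cfsg.Agent.Fus
open scoped commutatorElement

variable {K : Type*} [Field K] [CharP K 2] [Finite K] {s : Sg K}

theorem tot_cm {Ω : Type*} [Group Ω] {P : Subgroup Ω} (α : MulAut P) {x y : Ω} (hx : x ∈ P) (hy : y ∈ P) :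
    totA α ⁅x, y⁆ = ⁅totA α x, totA α y⁆ := Iv.wd_cm.tot α hx hy

theorem tot_sq {Ω : Type*} [Group Ω] {P : Subgroup Ω} (α : MulAut P) {x : Ω} (hx : x ∈ P) (h : x * x = 1) :
    totA α x * totA α x = 1 := by rw [← mulOn_totA α x hx x hx, h, (mulOn_totA α).map_one]

/-- The preimage of a subgroup. -/
def pr {Ω : Type*} [Group Ω] {P : Subgroup Ω} (α : MulAut P) (N : Subgroup Ω) : Subgroup Ω where
  carrier := {x | x ∈ P ∧ totA α x ∈ N}
  one_mem' := ⟨one_mem _, by simp [(mulOn_totA α).map_one]⟩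
  mul_mem' := fun {x y} hx hy => ⟨mul_mem hx.1 hy.1, mulOn_totA α x hx.1 y hy.1 ▸ mul_mem hx.2 hy.2⟩
  inv_mem' := fun {x} hx => ⟨inv_mem hx.1, (mulOn_totA α).map_inv hx.1 ▸ inv_mem hx.2⟩

theorem exists_nuA : ∃ α : MulAut (Qs s), ∀ x ∈ Qs s, totA α x = nu x :=
  exists_mkA (fun _ hx _ hy => nu_mul hx hy) (fun x _ => nu_mem x) fun x hx e => by
    rw [← nu_nu hx, e]; ext <;> simp

variable (s) in
/-- The automorphism of `Q` induced by `n`. -/
noncomputable def nuA : MulAut (Qs s) := exists_nuA.choose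

theorem nuA_apply {x : SG s} (hx : x ∈ Qs s) : totA (nuA s) x = nu x := exists_nuA.choose_spec x hx

theorem nuA_sq : nuA s * nuA s = 1 := eq_one_of_forall_totA fun x hx => by
  rw [totA_mul _ _ hx, nuA_apply hx, nuA_apply (nu_mem x), nu_nu hx]

theorem Ph_Q : Ph (Qs s) = Vs s :=
  le_antisymm (Ph_le_of (fun _ hx _ hy => comm_mem_V hx hy) fun x hx => by simp [mem_Qs.1 hx]; grind)
    (V_ind fun _ hx _ hy => cm_Ph hx hy)

theorem invV (A : Subgroup (MulAut (Qs s))) : InvA A (Vs s) := Ph_Q (s := s) ▸ invA_Ph A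

theorem invY (A : Subgroup (MulAut (Qs s))) : InvA A (Ys s) :=
  (((Iv.top A).cent (Iv.of_invA (invV A))).congr fun _ => ⟨fun h => ⟨Ys_le_Qs h, fun _ hv =>
    commutatorElement_eq_one_iff_mul_comm.2 (Y_comm_V h hv)⟩, fun h => mem_Y_of_comm h.1 fun v hv =>
      commutatorElement_eq_one_iff_mul_comm.1 (h.2 v hv)⟩).invA

variable (s) in
/-- The chain in `Q`. -/
def CQ : ℕ → Subgroup (SG s)
  | 0 => Qs s
  | 1 => QRs s
  | 2 => Z6s s
  | 3 => P7s s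
  | 4 => Ys s
  | _ => Vs s

theorem P7_le_Q : P7s s ≤ Qs s := fun _ h => h.2.2.2

theorem keyQ {γ : MulAut (Qs s)} (h : (totA γ (x7 1)).a1 = 0) : γ ∈ Bs (Qs s) (CQ s) 5 := by
  have k : ∀ t, totA γ (x7 t) * totA γ (x7 t) = 1 := fun t => tot_sq γ (by simp) (M1_inv (by simp))
  have m : ∀ t, totA γ (x7 t) ∈ Qs s := fun t => totA_mem γ (by simp)
  have h5 := (inv_Z5 (k 1) h (m 1).2).1
  have h7 : (totA γ (x7 1)).a7 ≠ 0 := fun e => by
    simpa using ((invY ⊤).mem_iff (mem_top γ) (x := x7 1) (by simp)).1 (by simp [mem_Z5s.1 h5, e])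
  have h3 : γ ∈ stabA (Qs s) (P7s s) := mem_stabA_of_maps P7_le_Q fun x hx =>
    (st_P7Y (M := pr γ (P7s s)) (fun y hy => ⟨Ys_le_Qs hy, by
      have := (invY ⊤).mem (mem_top γ) hy; simp_all⟩) one_ne_zero (fun c => ⟨x7 c, ⟨by simp, by
        have e := tot_cm γ (x := x7 1) (y := x7 c) (by simp) (by simp)
        rw [M1_comm (by simp) (by simp), (mulOn_totA γ).map_one] at e
        have h1 : (totA γ (x7 c)).a1 = 0 := by simpa [mem_Z5s.1 h5, (m c).1, h7] using congrArg SG.a3 e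
        have := (inv_Z5 (k c) h1 (m c).2).1
        simp_all⟩, by simp, by simp⟩) hx).2
  have i7 := Iv.of_invA (invA_stabA (E := Qs s) P7_le_Q)
  have iR : Iv (stabA (Qs s) (P7s s)) (QRs s) := ((Iv.top _).cent (i7.img i7 _ Iv.wd_cm)).congr fun c =>
    ⟨fun hc => ⟨hc.2, by
      rintro _ ⟨x, hx, y, hy, rfl⟩
      exact cm_one_swap (Z_R (by simp [mem_P7s.1 hx, mem_P7s.1 hy]) hc.1)⟩, fun ⟨h1, h2⟩ => ⟨by
      have := h2 _ ⟨w4 1 0, by simp, x7 1, by simp, rfl⟩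
      rw [show ⁅(w4 1 0 : SG s), (x7 1 : SG s)⁆ = w6 0 1 by ext <;> simp] at this
      simpa [mem_Qs.1 h1] using congrArg SG.u4 this, h1⟩⟩
  have i6 : Iv (stabA (Qs s) (P7s s)) (Z6s s) :=
    (iR.all1 i7 (fun _ _ x y => ⁅x * x, y⁆) fun _ _ _ _ f x y => by simp).congr fun c =>
      ⟨fun hc => ⟨⟨hc.1, hc.2.2⟩, fun e he => W_R1 (Z6_sq hc).1 ⟨he.1, he.2.1, he.2.2.2.1⟩⟩, fun ⟨h1, h2⟩ => by
        obtain ⟨k1, k2, -⟩ := Z7_sq (c := c) ⟨h1.1, h1.2.1⟩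
        have := congrArg SG.u4 (h2 (x7 1) (by simp))
        generalize c * c = z at k1 k2 this
        simp [mem_Z5s.1 k1, k2] at this
        exact ⟨h1.1, this, h1.2⟩⟩
  refine mem_Bs.2 fun i hi => ?_
  interval_cases i
  exacts [(invA_top ⊤).le_stabA (mem_top _), iR.invA.le_stabA h3, i6.invA.le_stabA h3, h3,
    (invY ⊤).le_stabA (mem_top _), (invV ⊤).le_stabA (mem_top _)]

theorem st_Q {M : Subgroup (SG s)} {l : K} (hN : QRs s ≤ M) (hl : l ≠ 0) (h : ∀ c, ∃ p ∈ M, p ∈ Qs s ∧ p.a1 = l * c) :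
    Qs s ≤ M :=
  le_step SG.a1 (fun p hp r hr e => by simp_all <;> grind) hN hl h

theorem cs_apply {Ω : Type*} [Group Ω] {P : Subgroup Ω} {C : ℕ → Subgroup Ω} {n : ℕ} {α : MulAut P}
    (h : α ∈ chainStab P C n) {i : ℕ} (hi : i < n) {x : Ω} (hx : x ∈ C i) (hP : x ∈ P) : x⁻¹ * totA α x ∈ C (i + 1) :=
  (mem_secStab.1 (mem_chainStab.1 h i hi)).2 x hx hP

theorem K0_Q {ζ : MulAut (Qs s)} (h : ζ ∈ chainStab (Qs s) (CQ s) 5) (h7 : (totA ζ (x1 1)).a7 = 0) :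
    ζ ∈ K0 (Qs s) (Ys s) (Vs s) := by
  have hB := mem_Bs.1 (keyQ (γ := nuA s * ζ * nuA s) (by
    rw [totA_mul _ _ (by simp), nuA_apply (by simp), totA_mul _ _ (nu_mem _), nuA_apply (totA_mem _ (nu_mem _)),
      show nu (x7 1 : SG s) = x1 1 by ext <;> simp]
    exact h7))
  have k : ∀ i ≤ 5, ∀ x ∈ Qs s, nu x ∈ CQ s i → nu (totA ζ x) ∈ CQ s i := fun i hi x hx e => by
    have := (hB i hi _ (nu_mem x)).2 e
    rwa [totA_mul _ _ (nu_mem _), nuA_apply (nu_mem _), nu_nu hx, totA_mul _ _ hx, nuA_apply (totA_mem _ hx)] at this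
  refine (mem_K0 Ys_le_Qs Vs_le_Ys).2 ⟨fun x hx => (st_Q (M := mv ζ (Ys s)) (st_QR (st_Z6 (st_P7Y
    (fun y hy => ⟨Ys_le_Qs hy, mul_mem (inv_mem hy) ((invY ⊤).mem (mem_top _) hy)⟩) one_ne_zero fun c =>
      ⟨x7 c, ⟨by simp, cs_apply h (i := 3) (by norm_num) (show _ ∈ P7s s by simp) (by simp)⟩, by simp, by simp⟩)
    one_ne_zero fun c => ⟨w6 c 0, ⟨by simp, ?_⟩, by simp, by simp⟩) one_ne_zero fun c =>
    ⟨w2 c 0, ⟨by simp, ?_⟩, by simp, by simp⟩) one_ne_zero (fun c => ⟨x1 c, ⟨by simp, ?_⟩, by simp, by simp⟩) hx).2,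
    fun x hx => cs_apply h (i := 4) (by norm_num) hx (Ys_le_Qs hx)⟩
  · have h1 : _ ∈ P7s s := cs_apply h (i := 2) (by norm_num) (x := w6 c 0) (show _ ∈ Z6s s by simp) (by simp)
    have h2 : _ ∈ QRs s := k 1 (by norm_num) (w6 c 0) (by simp) (show _ ∈ QRs s by simp)
    simp_all
  · have h1 : _ ∈ Z6s s := cs_apply h (i := 1) (by norm_num) (x := w2 c 0) (show _ ∈ QRs s by simp) (by simp)
    have h2 : _ ∈ Z6s s := k 2 (by norm_num) (w2 c 0) (by simp) (show _ ∈ Z6s s by simp)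
    simp_all
  · have h1 : _ ∈ QRs s := cs_apply h (i := 0) (by norm_num) (x := x1 c) (show _ ∈ Qs s by simp) (by simp)
    have h2 : _ ∈ P7s s := k 3 (by norm_num) (x1 c) (by simp) (show _ ∈ P7s s by simp)
    simp_all

theorem chQ : Ch (Qs s) (CQ s) 5 where
  pg := pg_SG
  h0 := rfl
  hn := Ph_Q.ge
  anti i hi := by interval_cases i <;> intro x hx <;> simp_all [CQ]
  nC i hi := by interval_cases i; exacts [nQs, nQRs, nZ6s, nP7s, nYs, nVs]
  st i hi t x hx := by interval_cases i <;> simp_all [CQ]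

theorem rkQ : Rk (Qs s) (CQ s) 5 (Ys s) (U8s s) (nuA s) where
  toCh := chQ
  iN := invY _
  iC := invV _
  hN := Vs_le_Ys
  g1 γ := by
    by_cases h : (totA γ (x7 1)).a1 = 0
    · exact .inl (keyQ h)
    obtain ⟨a, v, k⟩ := cj_Mn (tot_sq γ (by simp) (M1_inv (by simp))) h
    have m : totA γ (x7 1) ∈ Qs s := totA_mem γ (by simp)
    refine .inr ⟨w8 a v, keyQ ?_⟩
    rw [totA_mul _ _ (by simp), totA_mul _ _ m, totA_cAut (nm _) m, nuA_apply (Qs_conj _ _ m)]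
    exact k.2.2.2.2.1
  g2 ζ h := by
    have m : totA ζ (x1 1) ∈ Qs s := totA_mem ζ (by simp)
    have h1 : _ ∈ QRs s := cs_apply h (i := 0) (by norm_num) (x := x1 1) (show _ ∈ Qs s by simp) (by simp)
    obtain ⟨a, v, k⟩ := cj_Mn (tot_sq ζ (by simp) (x1_mul_self 1)) (fun e => by simpa [e] using h1.1)
    refine ⟨w8 a v, by simp, K0_Q (mul_mem (chQ.c_cs _) h) ?_⟩
    rw [totA_mul _ _ (by simp), totA_cAut (nm _) m]
    exact k.2.2.2.2.1
  inn α hα := by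
    obtain ⟨g, hg, e⟩ := mem_inn_iff.1 hα
    exact (mem_K0 Ys_le_Qs Vs_le_Ys).2 ⟨fun x hx => by
      rw [totA_apply _ hx, e, comm_mem_iff_conj]; exact Vs_le_Ys (comm_mem_V (inv_mem hx) hg), fun x hx => by
      rw [totA_apply _ (Ys_le_Qs hx), e, comm_mem_iff_conj]; exact comm_mem_V (inv_mem (Ys_le_Qs hx)) hg⟩
  nt := ⟨w8 0 1, fun h => by
    have := ((mem_K0 Ys_le_Qs Vs_le_Ys).1 h).1 (x1 1) (by simp)
    rw [totA_cAut (nm _) (by simp), comm_mem_iff_conj] at this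
    simp at this⟩
  kb α h := keyQ (by simpa using (((mem_K0 Ys_le_Qs Vs_le_Ys).1 h).1 (x7 1) (by simp)).1)

end Cfsg.Agent.Oc
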