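import Mathlib
import Cfsg.Agent.Oc.PtQ

/-! The rank one structure on the automorphism group of `R`. -/

set_option autoImplicit false
set_option linter.unusedSectionVars false

namespace Cfsg.Agent.Oc

open Cfsg.Agent.Og SG Subgroup Cfsg.Agent.Fus
open scoped commutatorElement

variable {K : Type*} [Field K] [CharP K 2] [Finite K] {s : Sg K}

theorem exists_muA : ∃ α : MulAut (Rs s), ∀ x ∈ Rs s, totA α x = mu x :=
  exists_mkA (fun _ hx _ hy => mu_mul hx hy) (fun x _ => mu_mem x) fun x hx e => by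
    rw [← mu_mu hx, e]; ext <;> simp

variable (s) in
/-- The automorphism of `R` induced by `m`. -/
noncomputable def muA : MulAut (Rs s) := exists_muA.choose

theorem muA_apply {x : SG s} (hx : x ∈ Rs s) : totA (muA s) x = mu x := exists_muA.choose_spec x hx

theorem muA_sq : muA s * muA s = 1 := eq_one_of_forall_totA fun x hx => by
  rw [totA_mul _ _ hx, muA_apply hx, muA_apply (mu_mem x), mu_mu hx]

theorem R1_le_R : R1s s ≤ Rs s := fun _ h => h.1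

theorem Z7_le_R : Z7s s ≤ Rs s := fun _ h => h.1

theorem Z5_PhR : Z5s s ≤ Ph (Rs s) :=
  st_Z5V (st_V (Z4_Ph_a8 (fun _ h => h.1) (e := w8 1 0) (by simp) (by simp)) one_ne_zero fun c => by
    obtain ⟨a, rfl⟩ := nm_surj (s := s) c
    exact ⟨w2 a 0 * w2 a 0, sq_Ph (by simp), by simp; grind, by simp⟩) one_ne_zero fun c =>
    ⟨⁅w6 c 0, w8 1 0⁆, cm_Ph (by simp) (by simp), by simp, by simp⟩

theorem mem_PhR {z : SG s} (hz : z ∈ R1s s) {a b : K} (h4 : z.a4 = s.σ a * b) (h6 : z.a6 = a * s.σ b) :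
    z ∈ Ph (Rs s) := by
  obtain ⟨c, hc⟩ := nm_surj (s := s) z.u8
  have k : ⁅(w2 a 0 : SG s), (w8 b 0 : SG s)⁆ ∈ R1s s ∧ ⁅(w2 a 0 : SG s), (w8 b 0 : SG s)⁆.a4 = z.a4 ∧
    ⁅(w2 a 0 : SG s), (w8 b 0 : SG s)⁆.a6 = z.a6 ∧ ⁅(w2 a 0 : SG s), (w8 b 0 : SG s)⁆.u8 = 0 := by simp [h4, h6]
  have k' : ⁅(w2 a 0 : SG s), (w8 b 0 : SG s)⁆ ∈ Ph (Rs s) := cm_Ph (by simp) (by simp)
  generalize ⁅(w2 a 0 : SG s), (w8 b 0 : SG s)⁆ = y at k k'
  refine (mul_mem_cancel_right (mul_mem k' (sq_Ph (x := w8 c 0) (by simp)))).1 (Z5_PhR ?_)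
  simp [mem_R1s.1 hz, mem_R1s.1 k.1, k.2, ← hc]; grind

theorem cm_PhR {y : SG s} (hy : y ∈ R1s s) (t : SG s) : ⁅y, t⁆ ∈ Ph (Rs s) := by
  by_cases hu : y.u8 = 0
  · exact mem_PhR (a := 0) (b := 0) (by simp_all) (by simp_all) (by simp_all)
  have : s.σ y.u8 ≠ 0 := by simpa using hu
  refine mem_PhR (a := t.a1 * (s.σ y.u8 / y.u8)) (b := s.σ y.u8 / y.u8) (by simp_all) ?_ ?_ <;>
    simp [mem_R1s.1 hy] <;> field_simp

theorem PhR_le : Ph (Rs s) ≤ R1s s :=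
  Ph_le_of (fun x hx y hy => by simp [mem_Rs.1 hx, mem_Rs.1 hy]) fun x hx => by simp [mem_Rs.1 hx]; grind

theorem ivZR (A : Subgroup (MulAut (Rs s))) : Iv A (Zs s) := ((Iv.top A).cent (Iv.top A)).congr fun _ =>
  ⟨fun h => ⟨h.1, fun _ he => Z_R h he⟩, fun h => mem_Zs_of_comm h.1 fun r hr =>
    (commutatorElement_eq_one_iff_mul_comm.1 (h.2 r hr)).symm⟩

theorem ivWR (A : Subgroup (MulAut (Rs s))) : Iv A (Ws s) := ((Iv.top A).cmm (Iv.top A) (ivZR A)).congr fun c =>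
  ⟨fun h => ⟨h.1, fun e _ => W_Z h e⟩, fun ⟨h1, h⟩ => by
    have k1 : c.a1 = 0 := h1
    have k8 : c.a8 = 0 := by simpa [k1] using (h (w6 1 0) (by simp)).2.2.2.2.2.2.2.1
    have k2 : c.a2 = 0 := by simpa [k1, k8] using (h (w4 1 0) (by simp)).2.2.2.1
    have k8' : c.u8 = 0 := by simpa [k1, k8, k2] using (h (w2 1 0) (by simp)).2.2.2.2.2.2.2.1
    have k4 : c.a4 = 0 := by simpa [k1, k8, k2] using (h (w2 1 0) (by simp)).2.2.2.1
    have k7 : c.a7 = 0 := by simpa [k1, k8, k2, k8'] using (h (w2 1 0) (by simp)).2.2.2.2.2.1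
    have k6 : c.a6 = 0 := by simpa [k1, k8, k2] using (h (w8 1 0) (by simp)).2.2.2.2.2.2.2.1
    have k2' : c.u2 = 0 := by simpa [k1, k8, k2] using (h (w8 1 0) (by simp)).2.2.2.1
    have k3 : c.a3 = 0 := by simpa [k1, k8, k2, k2'] using (h (w8 1 0) (by simp)).2.2.2.2.2.1
    exact ⟨k1, k2, k2', k3, k4, k6, k7, k8, k8'⟩⟩

theorem invR1 (A : Subgroup (MulAut (Rs s))) : InvA A (R1s s) :=
  (((Iv.top A).cent (ivWR A)).congr fun c => ⟨fun h => ⟨h.1, fun _ he => cm_one_swap (W_R1 he h)⟩, fun ⟨h1, h⟩ => by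
    have k := cm_one_swap (h (x5 1) (by simp))
    have k1 : c.a1 = 0 := h1
    exact ⟨k1, by simpa [k1] using congrArg SG.u4 k, by simpa using congrArg SG.u6 k⟩⟩).invA

variable (s) in
/-- The chain in `R`. -/
def CR : ℕ → Subgroup (SG s)
  | 0 => Rs s
  | 1 => Z7s s
  | 2 => R1s s
  | _ => Ph (Rs s)

theorem keyR {γ : MulAut (Rs s)} (h : (totA γ (w2 1 0)).a8 = 0) : γ ∈ Bs (Rs s) (CR s) 3 := by
  have h3 : γ ∈ stabA (Rs s) (Z7s s) := mem_stabA_of_maps Z7_le_R fun x hx =>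
    (st_Z7R (M := pr γ (Z7s s)) (fun y hy => ⟨hy.1, by
      have := (invR1 ⊤).mem (mem_top γ) hy; simp_all⟩) one_ne_zero (fun c => ⟨w2 c 0, ⟨by simp,
        totA_mem γ (x := w2 c 0) (by simp), by
        have e : ⁅(x5 c : SG s), (w2 1 0 : SG s)⁆ = ⁅(x5 1 : SG s), (w2 c 0 : SG s)⁆ := by ext <;> simp
        have e' := congrArg SG.u6 (congrArg (totA γ) e)
        rw [tot_cm γ (by simp) (by simp), tot_cm γ (by simp) (by simp)] at e'
        have m1 := (ivWR ⊤).mp γ (mem_top _) (x5 c) (by simp)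
        have m2 := (ivWR ⊤).mp γ (mem_top _) (x5 1) (by simp)
        have m3 : (totA γ (x5 1)).a5 ≠ 0 := fun k => by
          simpa using (ivZR ⊤).back (mem_top γ) (x := x5 1) (by simp) (by simp [mem_Ws.1 m2, k])
        simpa [mem_Ws.1 m1, mem_Ws.1 m2, h, m3] using e'⟩, by simp, by simp⟩) hx).2
  refine mem_Bs.2 fun i hi => ?_
  interval_cases i
  exacts [(invA_top ⊤).le_stabA (mem_top _), h3, (invR1 ⊤).le_stabA (mem_top _), (invA_Ph ⊤).le_stabA (mem_top _)]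

theorem st_R {M : Subgroup (SG s)} {l : K} (hN : Z7s s ≤ M) (hl : l ≠ 0) (h : ∀ c, ∃ p ∈ M, p ∈ Rs s ∧ p.a8 = l * c) :
    Rs s ≤ M :=
  le_step SG.a8 (fun p hp r hr e => by simp_all <;> grind) hN hl h

theorem K0_R {ζ : MulAut (Rs s)} (h : ζ ∈ chainStab (Rs s) (CR s) 3) (h2 : (totA ζ (w8 1 0)).a2 = 0) :
    ζ ∈ K0 (Rs s) (R1s s) (Ph (Rs s)) := by
  have hB := mem_Bs.1 (keyR (γ := muA s * ζ * muA s) (by
    rw [totA_mul _ _ (by simp), muA_apply (by simp), totA_mul _ _ (mu_mem _), muA_apply (totA_mem _ (mu_mem _)),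
      show mu (w2 1 0 : SG s) = w8 1 0 by ext <;> simp]
    exact h2)) 1 (by norm_num)
  refine (mem_K0 R1_le_R PhR_le).2 ⟨fun x hx => (st_R (M := mv ζ (R1s s)) (st_Z7R
    (fun y hy => ⟨hy.1, mul_mem (inv_mem hy) ((invR1 ⊤).mem (mem_top _) hy)⟩) one_ne_zero fun c =>
      ⟨w2 c 0, ⟨by simp, cs_apply h (i := 1) (by norm_num) (show _ ∈ Z7s s by simp) (by simp)⟩, by simp, by simp⟩)
    one_ne_zero (fun c => ⟨w8 c 0, ⟨by simp, ?_⟩, by simp, by simp⟩) hx).2,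
    fun x hx => cs_apply h (i := 2) (by norm_num) hx hx.1⟩
  have h1 : _ ∈ Z7s s := cs_apply h (i := 0) (by norm_num) (x := w8 c 0) (show _ ∈ Rs s by simp) (by simp)
  have h3 : _ ∈ Z7s s := (hB (mu (w8 c 0)) (mu_mem _)).2 (show _ ∈ Z7s s by simp)
  rw [totA_mul _ _ (mu_mem _), muA_apply (mu_mem _), mu_mu (by simp), totA_mul _ _ (by simp),
    muA_apply (totA_mem _ (by simp))] at h3
  simp_all

theorem chR : Ch (Rs s) (CR s) 3 where
  pg := pg_SG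
  h0 := rfl
  hn := le_rfl
  anti i hi := by
    interval_cases i
    exacts [Z7_le_R, fun _ h => ⟨h.1, h.2.2⟩, PhR_le]
  nC i hi := by interval_cases i; exacts [nRs, nZ7s, nR1s, show (Ph (Rs s)).Normal from inferInstance]
  st i hi t x hx := by
    interval_cases i
    exacts [by simp [CR], by simp_all [CR], cm_PhR hx t]

theorem rkR : Rk (Rs s) (CR s) 3 (R1s s) (U1s s) (muA s) where
  toCh := chR
  iN := invR1 _
  iC := invA_Ph _
  hN := PhR_le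
  g1 γ := by
    by_cases h : (totA γ (w2 1 0)).a8 = 0
    · exact .inl (keyR h)
    have m : totA γ (w2 1 0) ∈ Rs s := totA_mem γ (by simp)
    refine .inr ⟨x1 ((totA γ (w2 1 0)).a2 / (totA γ (w2 1 0)).a8), keyR ?_⟩
    rw [totA_mul _ _ (by simp), totA_mul _ _ m, totA_cAut (nm _) m, muA_apply (Rs_conj _ _ m)]
    simp [mem_Rs.1 m]; grind
  g2 ζ h := by
    have m : totA ζ (w8 1 0) ∈ Rs s := totA_mem ζ (by simp)
    have h1 : _ ∈ Z7s s := cs_apply h (i := 0) (by norm_num) (x := w8 1 0) (show _ ∈ Rs s by simp) (by simp)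
    refine ⟨x1 (totA ζ (w8 1 0)).a2, by simp, K0_R (mul_mem (chR.c_cs _) h) ?_⟩
    rw [totA_mul _ _ (by simp), totA_cAut (nm _) m]
    simp [mem_Rs.1 m] at h1 ⊢; grind
  inn α hα := by
    obtain ⟨g, hg, e⟩ := mem_inn_iff.1 hα
    exact (mem_K0 R1_le_R PhR_le).2 ⟨fun x hx => by
      rw [totA_apply _ hx, e, comm_mem_iff_conj]; exact PhR_le (cm_Ph (inv_mem hx) hg), fun x hx => by
      rw [totA_apply _ (R1_le_R hx), e, comm_mem_iff_conj]; exact cm_Ph (inv_mem (R1_le_R hx)) hg⟩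
  nt := ⟨x1 1, fun h => by
    have := ((mem_K0 R1_le_R PhR_le).1 h).1 (w8 1 0) (by simp)
    rw [totA_cAut (nm _) (by simp), comm_mem_iff_conj] at this
    simp at this⟩
  kb α h := keyR (by simpa using (((mem_K0 R1_le_R PhR_le).1 h).1 (w2 1 0) (by simp)).2.2)

end Cfsg.Agent.Oc
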