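import Mathlib
import Cfsg.Agent.Oc.PtR

/-! The automorphisms of the Sylow subgroup. -/

set_option autoImplicit false
set_option linter.unusedSectionVars false

namespace Cfsg.Agent.Oc

open Cfsg.Agent.Og SG Subgroup Cfsg.Agent.Fus
open scoped commutatorElement

variable {K : Type*} [Field K] [CharP K 2] [Finite K] {s : Sg K}

theorem aut_pow (a : K →+* K) : ∃ j, ∀ x, a x = x ^ 2 ^ j := by
  letI := ZMod.algebra K 2
  let τ : K ≃ₐ[ZMod 2] K := AlgEquiv.ofRingEquiv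
    (f := RingEquiv.ofBijective a (Finite.injective_iff_bijective.1 a.injective)) fun x =>
    congrFun (congrArg DFunLike.coe (Subsingleton.elim (a.comp (algebraMap (ZMod 2) K)) (algebraMap (ZMod 2) K))) x
  obtain ⟨j, hj⟩ := (FiniteField.bijective_frobeniusAlgEquivOfAlgebraic_pow (ZMod 2) K).2 τ
  refine ⟨j, fun x => ?_⟩
  have : τ x = (FiniteField.frobeniusAlgEquivOfAlgebraic (ZMod 2) K ^ j.1) x := by rw [← hj]
  rw [AlgEquiv.coe_pow, FiniteField.coe_frobeniusAlgEquivOfAlgebraic_iterate, ZMod.card] at this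
  exact this

theorem aut_σ (a : K ≃+* K) (x : K) : a (s.σ x) = s.σ (a x) := by
  obtain ⟨j, hj⟩ := aut_pow (a : K →+* K)
  exact (hj _).trans (by rw [← map_pow, ← hj]; rfl)

theorem aut_inv (s : Sg K) {a : K ≃+* K} (h : ∀ x, a (a x) = x) (x : K) : a x = x := by
  obtain ⟨i, hi⟩ := aut_pow (a : K →+* K)
  obtain ⟨j, hj⟩ := aut_pow s.σ
  have k : ∀ (n : ℕ) x, a^[n] x = x ^ 2 ^ (n * i) := fun n x => by
    induction n with
    | zero => simp
    | succ n ih => rw [Function.iterate_succ_apply', ih]; exact (hi _).trans (by rw [← pow_mul, ← pow_add]; ring_nf)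
  have k1 : ∀ x : K, x ^ 2 ^ (2 * j) = x ^ 2 := fun x => by rw [← s.sq, hj, hj, ← pow_mul, ← pow_add, two_mul]
  have k2 : ∀ (n : ℕ) (x : K), x ^ 2 ^ (2 * j * n) = x ^ 2 ^ n := fun n x => by
    induction n with
    | zero => simp
    | succ n ih => rw [mul_add, mul_one, pow_add, pow_mul, ih, k1, ← pow_mul, pow_succ]
  exact (hi x).trans (by rw [← k2, ← k, Function.Involutive.iterate_two_mul h, id])

/-- The field automorphisms. -/
@[simps] def fld (a : K ≃+* K) (p : SG s) : SG s :=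
  ⟨a p.a1, a p.a2, a p.u2, a p.a3, a p.a4, a p.u4, a p.a5, a p.a6, a p.u6, a p.a7, a p.a8, a p.u8⟩

theorem fld_mul (a : K ≃+* K) (p r : SG s) : fld a (p * r) = fld a p * fld a r := by
  ext <;> simp only [fld, mul_a1, mul_a2, mul_u2, mul_a3, mul_a4, mul_u4, mul_a5, mul_a6, mul_u6, mul_a7, mul_a8,
    mul_u8, map_add, map_mul, map_pow, aut_σ]

/-- The action on units. -/
def au (a : K ≃+* K) : Kˣ →* Kˣ := Units.map (a : K →* K)

@[simp] theorem coe_au (a : K ≃+* K) (c : Kˣ) : ((au a c : Kˣ) : K) = a c := rfl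

/-- The semilinear diagonal automorphisms. -/
def df (α β : Kˣ) (a : K ≃+* K) (p : SG s) : SG s := dl α β (fld a p)

theorem df_mul (α β : Kˣ) (a : K ≃+* K) (p r : SG s) : df α β a (p * r) = df α β a p * df α β a r := by
  rw [df, fld_mul, dl_mul]; rfl

theorem df_df (α β α' β' : Kˣ) (a a' : K ≃+* K) (p : SG s) :
    df α β a (df α' β' a' p) = df (α * au a α') (β * au a β') (a * a') p := by
  ext <;> simp [df, aut_σ] <;> ring

theorem df_one (α β : Kˣ) (p : SG s) : df α β 1 p = dl (α : K) (β : K) p := by ext <;> simp [df]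

theorem df_inv (α β : Kˣ) (a : K ≃+* K) (p : SG s) : df (au a⁻¹ α⁻¹) (au a⁻¹ β⁻¹) a⁻¹ (df α β a p) = p := by
  rw [df_df, ← map_mul, ← map_mul]; simp [df_one]

theorem exists_dfA {P : Subgroup (SG s)} {α β : Kˣ} {a : K ≃+* K} (h : ∀ x ∈ P, df α β a x ∈ P) :
    ∃ φ : MulAut P, ∀ p ∈ P, totA φ p = df α β a p :=
  exists_mkA (fun x _ y _ => df_mul α β a x y) h fun x _ e => by
    rw [← df_inv α β a x, e]; ext <;> simp [df]

variable (s) in
/-- The group of the semilinear diagonal automorphisms. -/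
def Ds : Subgroup (MulAut (⊤ : Subgroup (SG s))) where
  carrier := {φ | ∃ α β a, ∀ p, totA φ p = df α β a p}
  one_mem' := ⟨1, 1, 1, fun p => by simp [totA_one, df_one]⟩
  mul_mem' := by
    rintro φ ψ ⟨α, β, a, h⟩ ⟨α', β', a', h'⟩
    exact ⟨_, _, _, fun p => by rw [totA_mul _ _ (mem_top p), h, h', df_df]⟩
  inv_mem' := by
    rintro φ ⟨α, β, a, h⟩
    exact ⟨_, _, _, fun p => by rw [← df_inv α β a (totA φ⁻¹ p), ← h, totA_totA_inv _ (mem_top p)]⟩

theorem odd_of_sq {G : Type*} [Group G] [Finite G] {H : Subgroup G} (h : ∀ x ∈ H, x * x = 1 → x = 1) :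
    Odd (Nat.card H) := Nat.not_even_iff_odd.1 fun k => by
  obtain ⟨x, hx⟩ := exists_prime_orderOf_dvd_card' 2 k.two_dvd
  have := h x x.2 (by simpa [hx, sq] using congrArg Subtype.val (pow_orderOf_eq_one x))
  rw [show x = 1 from Subtype.ext this, orderOf_one] at hx
  omega

theorem df_inj {α β α' β' : Kˣ} {a a' : K ≃+* K} (h1 : ∀ t, (α : K) * a t = α' * a' t) (h8 : β = β') :
    α = α' ∧ β = β' ∧ a = a' := by
  obtain rfl : α = α' := Units.ext (by simpa using h1 1)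
  exact ⟨rfl, h8, RingEquiv.ext fun t => mul_left_cancel₀ α.ne_zero (h1 t)⟩

theorem odd_Ds : Odd (Nat.card (Ds s)) := odd_of_sq fun φ ⟨α, β, a, h⟩ e => by
  have k : ∀ p, df (α * au a α) (β * au a β) (a * a) p = df 1 1 1 p := fun p => by
    rw [← df_df, ← h, ← h, ← totA_mul _ _ (mem_top p), e, totA_one (mem_top p), df_one]; simp
  obtain ⟨k1, k2, k3⟩ := df_inj (β := β * au a β) (β' := 1) (fun t => congrArg SG.a1 (k (x1 t)))
    (Units.ext (by simpa [df] using congrArg SG.a8 (k (w8 1 0))))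
  obtain rfl : a = 1 := RingEquiv.ext (aut_inv s fun x => DFunLike.congr_fun k3 x)
  obtain rfl := Sg.eq_one_of_sq (c := α) ((sq α).trans k1)
  obtain rfl := Sg.eq_one_of_sq (c := β) ((sq β).trans k2)
  exact eq_one_of_forall_totA fun p _ => by simp [h, df_one]

theorem inv_res {Ω : Type*} [Group Ω] [Finite Ω] {E P N : Subgroup Ω} (h : InvA (⊤ : Subgroup (MulAut E)) P)
    (h' : InvA (⊤ : Subgroup (MulAut P)) N) : InvA (⊤ : Subgroup (MulAut E)) N :=
  ⟨h'.le.trans h.le, fun α hα x hx => by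
    obtain ⟨β, e⟩ := exists_mkA ((mulOn_totA α).mono h.le) (fun _ => h.mem hα) fun x hx =>
      (totA_eq_one_iff α (h.le hx)).1
    exact e x (h'.le hx) ▸ h'.mem (mem_top β) hx⟩

local notation "𝓐" => (⊤ : Subgroup (MulAut (⊤ : Subgroup (SG s))))

theorem sX : Iv 𝓐 (Xs s) := ((Iv.top _).cent (Iv.top _)).congr fun _ => ⟨fun h => ⟨mem_top _, fun e _ => X_comm h e⟩,
  fun h => mem_Xs_of_comm fun r _ => (commutatorElement_eq_one_iff_mul_comm.1 (h.2 r (mem_top r))).symm⟩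

theorem sZ : Iv 𝓐 (Zs s) := ((Iv.top _).cmm (Iv.top _) sX).congr fun _ => ⟨fun h => ⟨mem_top _, fun e _ => Z_X h e⟩,
  fun h => mem_Zs_of_comm' fun r => h.2 r (mem_top r)⟩

theorem sR : InvA 𝓐 (Rs s) := (((Iv.top _).cent sZ).congr fun _ => ⟨fun h => ⟨mem_top _, fun _ he =>
  cm_one_swap (Z_R he h)⟩, fun h => mem_Rs.2 (by simpa using congrArg SG.u4 (cm_one_swap (h.2 (w6 0 1) (by simp))))⟩).invA

theorem sW : InvA 𝓐 (Ws s) := inv_res sR (ivWR ⊤).invA

theorem sR1 : InvA 𝓐 (R1s s) := inv_res sR (invR1 ⊤)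

theorem sQ8 : InvA 𝓐 (Q8s s) := (((Iv.top _).cmm (.of_invA sW) sX).congr fun _ => ⟨fun h => ⟨mem_top _, fun e he =>
  cm_swap (by simp [mem_Ws.1 he, mem_Q8s.1 h])⟩, fun h => by simpa using cm_swap (h.2 (x5 1) (by simp))⟩).invA

theorem sZ7 : InvA 𝓐 (Z7s s) := (show Rs s ⊓ Q8s s = Z7s s from rfl) ▸ sR.inf sQ8

theorem sZ4 : InvA 𝓐 (Z4s s) := (((Iv.top _).cmm (Iv.top _) (.of_invA sW)).congr fun c =>
  ⟨fun h => ⟨mem_top _, fun e _ => Z4_W h e⟩, fun ⟨_, h⟩ => by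
    have h1 := mem_Ws.1 (h (x1 1) (mem_top _))
    have h8 := mem_Ws.1 (h (w8 1 0) (mem_top _))
    have k1 : c.a1 = 0 := by simpa using h8.2.1
    have k8 : c.a8 = 0 := by simpa using h1.2.1
    have k8' : c.u8 = 0 := by simpa [k8] using h1.2.2.2.2.2.1
    have k2 : c.a2 = 0 := by simpa [k1, k8] using h8.2.2.2.2.2.1
    have k6 : c.a6 = 0 := by simpa [k1, k8, k2] using h8.2.2.2.2.2.2.1
    have k4 : c.a4 = 0 := by simpa [k1, k8, k2, k6, k8'] using h1.2.2.1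
    have k7 : c.a7 = 0 := by simpa [k1, k8, k2, k6, k8'] using h1.2.2.2.1
    have k2' : c.u2 = 0 := by simpa [k1, k8, k2] using h8.2.2.2.1
    exact ⟨k1, k2, k2', k4, k6, k7, k8, k8'⟩⟩).invA

theorem sQ : InvA 𝓐 (Qs s) := (((Iv.of_invA sQ8).cmm (.of_invA sZ4) sX).congr fun _ => ⟨fun h => ⟨h.1, fun _ he =>
  comm_mem_X h (Z4_le_V he)⟩, fun h => ⟨h.1, by
    simpa [mem_Q8s.1 h.1] using cm_swap (h.2 (x3 1) (by simp))⟩⟩).invA

theorem sY : InvA 𝓐 (Ys s) := inv_res sQ (invY ⊤)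

theorem co_eq {N : Subgroup (SG s)} (h : InvA 𝓐 N) (φ : MulAut (⊤ : Subgroup (SG s))) {p r : SG s}
    (e : p⁻¹ * r ∈ N) : (totA φ p)⁻¹ * totA φ r ∈ N := by
  rw [← (mulOn_totA φ).map_inv (mem_top _), ← mulOn_totA φ _ (mem_top _) _ (mem_top _)]
  exact h.mem (mem_top φ) e

theorem act_a2 (φ : MulAut (⊤ : Subgroup (SG s))) (a b : K) :
    (totA φ (w2 (a * b) 0)).a2 = (totA φ (x1 a)).a1 * (totA φ (w8 b 0)).a8 := by
  have h1 := co_eq sR1 φ (p := w2 (a * b) 0) (r := ⁅(x1 a : SG s), (w8 b 0 : SG s)⁆) (by simp; grind)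
  have h2 := sZ7.mem (mem_top φ) (x := w2 (a * b) 0) (by simp)
  have h3 : _ = _ := sQ8.mem (mem_top φ) (x := x1 a) (by simp)
  rw [tot_cm φ (mem_top _) (mem_top _)] at h1
  simp [mem_Z7s.1 h2, h3] at h1
  grind

theorem exists_sl (φ : MulAut (⊤ : Subgroup (SG s))) :
    ∃ (α β : Kˣ) (a : K ≃+* K), ∀ p, (totA φ p).a1 = α * a p.a1 ∧ (totA φ p).a8 = β * a p.a8 := by
  have h1 : ∀ p, (totA φ p).a1 = (totA φ (x1 p.a1)).a1 := fun p => by
    have : _ = _ := co_eq sR φ (p := p) (r := x1 p.a1) (by simp; grind)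
    simp at this; grind
  have h8 : ∀ p, (totA φ p).a8 = (totA φ (w8 p.a8 0)).a8 := fun p => by
    have : _ = _ := co_eq sQ8 φ (p := p) (r := w8 p.a8 0) (by simp; grind)
    simp at this; grind
  have n1 : (totA φ (x1 1)).a1 ≠ 0 := fun e => by simpa using (sR.mem_iff (mem_top φ) (mem_top _)).1 e
  have n8 : (totA φ (w8 1 0)).a8 ≠ 0 := fun e => by simpa using (sQ8.mem_iff (mem_top φ) (mem_top _)).1 e
  let a : K →+* K :=
    { toFun := fun t => (totA φ (x1 t)).a1 / (totA φ (x1 1)).a1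
      map_one' := div_self n1
      map_zero' := by simpa [n1] using sR.mem (mem_top φ) (x := x1 0) (by simp)
      map_add' := fun t u => by
        rw [← add_div, ← mul_a1, ← mulOn_totA φ _ (mem_top _) _ (mem_top _), h1 (_ * _)]; simp
      map_mul' := fun t u => by
        have e1 := act_a2 φ t u
        have e2 := act_a2 φ (t * u) 1
        have e3 := act_a2 φ 1 u
        have e4 := act_a2 φ u 1
        rw [mul_one] at e2 e4
        rw [one_mul] at e3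
        grind }
  refine ⟨Units.mk0 _ n1, Units.mk0 _ n8, RingEquiv.ofBijective a (Finite.injective_iff_bijective.1 a.injective),
    fun p => ⟨?_, ?_⟩⟩
  · rw [h1]; exact (mul_div_cancel₀ _ n1).symm
  · have e3 := act_a2 φ 1 p.a8
    have e4 := act_a2 φ p.a8 1
    rw [mul_one] at e4
    rw [one_mul] at e3
    rw [h8]
    change _ = (totA φ (w8 1 0)).a8 * (_ / _)
    grind

theorem mem_K0_S {φ : MulAut (⊤ : Subgroup (SG s))} (h : ∀ p, p⁻¹ * totA φ p ∈ Z7s s) :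
    φ ∈ K0 ⊤ (Z7s s) (Ph ⊤) := by
  have hV : Vs s ≤ Ph ⊤ := Ph_Q (s := s) ▸ Ph_mono le_top
  have hP : Ph ⊤ ≤ mv φ (Ph ⊤) := fun x hx => ⟨mem_top _, mul_mem (inv_mem hx) ((invA_Ph ⊤).mem (mem_top φ) hx)⟩
  have c : ∀ x y : SG s, ⁅x, y⁆ ∈ mv φ (Ph ⊤) := fun x y => hP (cm_Ph (mem_top _) (mem_top _))
  refine (mem_K0 le_top (Ph_le_of (fun x _ y _ => by simp) fun x _ => by simp; grind)).2 ⟨fun p _ => h p, fun x hx =>
    (st_Z7R (M := mv φ (Ph ⊤)) (st_R1 (st_Z6 (st_P7Y (fun y hy => ⟨mem_top _, hV ?_⟩) one_ne_zero fun t =>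
      ⟨_, c (w6 t 0) (w8 1 0), by simp, by simp⟩) one_ne_zero fun t => ⟨_, c (x1 t) (w8 0 1), by simp, by simp⟩)
      one_ne_zero fun t => ?_) one_ne_zero (fun t => ⟨_, c (x1 t) (w8 1 0), by simp, by simp⟩) hx).2⟩
  · obtain ⟨a, ha⟩ := nm_surj (s := s) y.a4
    have h1 := co_eq sZ4 φ (p := w2 a 0 * w2 a 0) (r := ⁅y, x1 1⁆) (by simp [mem_Ys.1 hy]; grind)
    have h2 := sY.mem (mem_top φ) hy
    have h3 := act_a2 φ a 1
    have h4 := Z7_sq (sZ7.mem (mem_top φ) (x := w2 a 0) (by simp))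
    have h5 := h (x1 1)
    have h6 := h (x1 a)
    have h7 := h (w8 1 0)
    rw [tot_cm φ (mem_top _) (mem_top _), mulOn_totA φ _ (mem_top _) _ (mem_top _)] at h1
    rw [mul_one] at h3
    generalize totA φ (w2 a 0) * totA φ (w2 a 0) = z at h1 h4
    simp at h5 h6 h7
    have k1 : (totA φ (x1 1)).a1 = 1 := by grind
    have k2 : (totA φ (w2 a 0)).a2 = a := by grind
    simp [mem_Z5s.1 h4.1, h4.2.1, mem_Ys.1 h2, k1, k2] at h1
    simp [mem_Ys.1 hy, mem_Ys.1 h2]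
    grind
  · obtain ⟨a, rfl⟩ := nm_surj (s := s) t
    exact ⟨w8 a 0 * w8 a 0, hP (sq_Ph (mem_top _)), by simp; grind, by simp⟩

theorem aut_top : K0 ⊤ (Z7s s) (Ph ⊤) ⊔ Ds s = ⊤ := eq_top_iff.2 fun φ _ => by
  obtain ⟨α, β, a, h⟩ := exists_sl φ
  obtain ⟨δ, e⟩ := exists_dfA (P := (⊤ : Subgroup (SG s))) (α := α) (β := β) (a := a) fun _ _ => mem_top _
  have hδ : δ ∈ Ds s := ⟨α, β, a, fun p => e p (mem_top p)⟩
  refine (mul_mem_cancel_right (mem_sup_right (inv_mem hδ))).1 (mem_sup_left (mem_K0_S fun p => ?_))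
  have := h (totA δ⁻¹ p)
  have k := e _ (mem_top (totA δ⁻¹ p))
  rw [totA_totA_inv _ (mem_top p)] at k
  rw [totA_mul _ _ (mem_top p)]
  generalize totA δ⁻¹ p = x at *
  simp [this, k, df]; grind

end Cfsg.Agent.Oc
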