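import Mathlib
import Cfsg.Agent.Oc.AutS
import Cfsg.Agent.Og.BN

/-! The normal form of the automorphisms of `S` in the system, and the torus. -/

set_option autoImplicit false
set_option linter.unusedSectionVars false

namespace Cfsg.Agent.Oc

open Cfsg.Agent.Og SG Subgroup Cfsg.Agent.Fus Cfsg.FusionSystem
open scoped commutatorElement Pointwise

variable {K : Type*} [Field K] [CharP K 2] [Finite K] {s : Sg K} {F : FusionSystem (⊤ : Subgroup (SG s))}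

/-- Every automorphism of `S` in the system is semilinear diagonal up to an inner one. -/
def NF (F : FusionSystem (⊤ : Subgroup (SG s))) : Prop :=
  ∀ τ, F.Iso ⊤ ⊤ τ → ∃ t α β a, F.Mor ⊤ (df α β a) ∧ ∀ p, τ p = t * df α β a p * t⁻¹

/-- An automorphism of the top subgroup as an automorphism of the group. -/
def eT {G : Type*} [Group G] (a : MulAut (⊤ : Subgroup G)) : G ≃* G := topEquiv.symm.trans (a.trans topEquiv)

theorem eT_apply {G : Type*} [Group G] (a : MulAut (⊤ : Subgroup G)) (x : G) : eT a x = totA a x :=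
  (totA_apply a (mem_top x)).symm

theorem eT_symm {G : Type*} [Group G] (a : MulAut (⊤ : Subgroup G)) (x : G) : (eT a).symm x = totA a⁻¹ x :=
  (totA_apply a⁻¹ (mem_top x)).symm

theorem exists_nf (hF : F.IsSaturated 2) :
    ∃ (E : FusionSystem (⊤ : Subgroup (SG s))) (e : SG s ≃* SG s), F.IsIsoVia E e e.symm ∧ NF E := by
  have hS : IsPGroup 2 (⊤ : Subgroup (SG s)) := pg_SG.to_subgroup _
  have hi := (hF.fullyAutomized hS F.isFullyNormalized_top).not_dvd hS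
  rw [← inn_eq_autInducedBy] at hi
  obtain ⟨k, hk⟩ := IsPGroup.iff_card.1 ((isPGroup_inn hS).comap_subtype (K := F.autGroup ⊤))
  obtain ⟨D, hD⟩ := exists_right_complement'_of_coprime
    (N := (Inn (⊤ : Subgroup (SG s))).subgroupOf (F.autGroup ⊤))
    (by rw [show Nat.card ((Inn (⊤ : Subgroup (SG s))).subgroupOf (F.autGroup ⊤)) = _ from hk]
        exact ((Nat.prime_two.coprime_iff_not_dvd).2 hi).pow_left k)
  have hK := K0_normal (sZ7 (s := s)) (invA_Ph ⊤)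
  obtain ⟨j, hj⟩ := IsPGroup.iff_card.1 (pg_K0 (N := Z7s s) pg_SG (le_refl (Ph ⊤)))
  obtain ⟨a, -, ha⟩ := GT.conj_le_of_coprime_le_sup (K0 ⊤ (Z7s s) (Ph ⊤)) (Ds s) (D.map (F.autGroup ⊤).subtype)
    (by rw [normalizer_eq_top]; exact le_top) (hj ▸ (Nat.coprime_two_left.2 odd_Ds).pow_left j) (by
      rw [hj, card_map_of_injective (subtype_injective _), ← hD.symm.index_eq_card]
      exact ((Nat.prime_two.coprime_iff_not_dvd).2 hi).pow_left j) (aut_top.ge.trans' le_top)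
    (.inl (have := (IsPGroup.of_card hj).isNilpotent; inferInstance))
  obtain ⟨E, hE⟩ := SU.U2.exists_via F (eT a)
  refine ⟨E, _, hE, fun τ hτ => ?_⟩
  have h1 := hE.symm.iso_push hτ
  rw [hE.symm.img_top] at h1
  obtain ⟨φ, hφ, e⟩ := h1.exists_aut
  obtain ⟨⟨i, d⟩, e'⟩ := (hD.existsUnique ⟨φ, hφ⟩).exists
  obtain ⟨t, -, ht⟩ := mem_inn_iff.1 (mem_subgroupOf.1 i.2)
  obtain ⟨α, β, b, hb⟩ := ha (smul_mem_pointwise_smul _ _ _ (mem_map_of_mem _ d.2))
  have k : ∀ p, τ p = eT a t * df α β b p * (eT a t)⁻¹ := fun p => by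
    have := e ((eT a).symm p) (mem_top _)
    rw [MulEquiv.apply_symm_apply, eq_comm, MulEquiv.symm_apply_eq, ← show _ = φ from congrArg Subtype.val e',
      coe_mul, totA_mul _ _ (mem_top _), totA_apply _ (mem_top _), ht, map_mul, map_mul, map_inv] at this
    rw [this, ← hb, eT_apply a (totA _ _), eT_symm, ← totA_mul _ _ (mem_top _), ← totA_mul _ _ (mem_top _)]
    rfl
  exact ⟨_, α, β, b, (hτ.mor.conj_comp (mem_top (eT a t)⁻¹)).congr fun p _ => by rw [k]; group, k⟩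

variable {G : Type*} [Group G] [Finite G] {F0 : Ft s G}

variable (F0) in
/-- The elements that induce on `P` an automorphism from `Γ`. -/
def Mg {P : Subgroup (SG s)} (Γ : Subgroup (MulAut P)) : Subgroup G where
  carrier := {g | ∃ δ ∈ Γ, ∀ p ∈ P, g * F0.u p * g⁻¹ = F0.u (totA δ p)}
  one_mem' := ⟨1, one_mem _, fun p hp => by simp [totA_one hp]⟩
  mul_mem' := by
    rintro g g' ⟨δ, h1, h2⟩ ⟨δ', h1', h2'⟩
    exact ⟨_, mul_mem h1 h1', fun p hp => by
      rw [totA_mul _ _ hp, ← h2 _ (totA_mem _ hp), ← h2' p hp]; group⟩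
  inv_mem' := by
    rintro g ⟨δ, h1, h2⟩
    exact ⟨_, inv_mem h1, fun p hp => by
      conv_lhs => rw [← totA_totA_inv δ hp, ← h2 _ (totA_mem _ hp)]
      group⟩

theorem of_Mg (hi : Function.Injective F0.u) {P : Subgroup (SG s)} {Γ : Subgroup (MulAut P)} {g : G}
    (h : g ∈ Mg F0 Γ) {ν : MulAut P} (e : ∀ p ∈ P, g * F0.u p * g⁻¹ = F0.u (totA ν p)) : ν ∈ Γ := by
  obtain ⟨δ, h1, h2⟩ := h
  exact mulAut_ext_totA (fun p hp => hi ((h2 p hp).symm.trans (e p hp))) ▸ h1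

theorem u_Mg {P : Subgroup (SG s)} [P.Normal] {Γ : Subgroup (MulAut P)} (h : F.autGroup P ≤ Γ) (p : SG s) :
    F0.u p ∈ Mg F0 Γ := ⟨_, h (cA_mem F p), fun x hx => by simp [totA_cAut (nm p) hx]⟩

theorem root_all (h0 : RF0 F0) {b : Bool} {P N : Subgroup (SG s)} {C : ℕ → Subgroup (SG s)} {n : ℕ} {ν : MulAut P}
    (h : Rk P C n N (Ur s b) ν) (h2 : ν * ν = 1) (hν : ∀ p ∈ P, F0.gn b * F0.u p * F0.gn b = F0.u (totA ν p))
    (hF : F.IsSaturated 2) (hE : F.IsEssential 2 P) (p : SG s) :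
    F0.gn b * F0.u p * F0.gn b ∈ Mg F0 (F.autGroup P ⊔ K0 P N (C n)) := by
  have := h.nP
  obtain ⟨y, hy, h1, k⟩ := h.exists_root hF hE
  obtain ⟨y1, -, x, y2, -, e⟩ := h0.rk1 b hy h1
  have hu := u_Mg (F0 := F0) (le_sup_left : F.autGroup P ≤ F.autGroup P ⊔ K0 P N (C n))
  have k1 : F0.gn b * F0.u y * F0.gn b ∈ Mg F0 (F.autGroup P ⊔ K0 P N (C n)) := ⟨_, k, fun p hp => by
    rw [inv_eq_of_mul_eq_one_right h2, totA_mul _ _ hp, totA_mul _ _ (totA_mem _ hp), ← hν _ (totA_mem _ (totA_mem _ hp)),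
      totA_cAut (nm y) (totA_mem _ hp), map_mul, map_mul, ← hν p hp]
    simp [h0.g_inv, mul_assoc]⟩
  rw [e, mul_mem_cancel_right (hu _), mul_assoc, mul_mem_cancel_left (hu _)] at k1
  obtain ⟨⟨α, β⟩, e'⟩ := h0.g_t b x⁻¹
  have := mul_mem (mul_mem k1 (hu (dl α β p))) (inv_mem k1)
  rw [← h0.tu, ← e'] at this
  convert this using 1
  simp [h0.g_inv, mul_assoc, ← mul_assoc (F0.gn b) (F0.gn b), h0.gg]

variable (h0 : RF0 F0) (hi : Function.Injective F0.u) (hF : F.IsSaturated 2)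
include h0 hi hF

theorem C_Mg (hE : F.IsEssential 2 (Qs s)) : F0.lt.C ≤ Mg F0 (F.autGroup (Qs s) ⊔ K0 (Qs s) (Ys s) (Vs s)) := by
  rw [h0.rc.C_eq]
  refine sup_le (by rintro _ ⟨p, rfl⟩; exact u_Mg le_sup_left p) ?_
  rintro _ ⟨_, ⟨p, rfl⟩, rfl⟩
  have := root_all (b := true) h0 rkQ nuA_sq (fun p hp => (h0.n_u hp).trans (by rw [nuA_apply hp])) hF hE p
  change F0.n * F0.u p * F0.n⁻¹ ∈ _
  exact h0.n_inv.symm ▸ this

theorem nuA_mem (hE : F.IsEssential 2 (Qs s)) : nuA s ∈ F.autGroup (Qs s) ⊔ K0 (Qs s) (Ys s) (Vs s) :=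
  of_Mg hi (C_Mg h0 hi hF hE F0.lt.n_mem_C) fun p hp => by
    rw [nuA_apply hp, ← h0.n_u hp]; exact congrArg _ h0.n_inv

theorem muA_mem (hE : F.IsEssential 2 (Rs s)) : muA s ∈ F.autGroup (Rs s) ⊔ K0 (Rs s) (R1s s) (Ph (Rs s)) := by
  have := root_all (b := false) h0 rkR muA_sq (fun p hp => (h0.m_u hp).trans (by rw [muA_apply hp])) hF hE (x1 1)
  have hu := u_Mg (F0 := F0) (le_sup_left : F.autGroup _ ≤ F.autGroup (Rs s) ⊔ K0 (Rs s) (R1s s) (Ph (Rs s))) (x1 1)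
  have e : F0.m = (F0.u (x1 1))⁻¹ * (F0.m * F0.u (x1 1) * F0.m)⁻¹ * (F0.u (x1 1))⁻¹ := by
    have := h0.m3
    rw [pow_succ, pow_two] at this
    rw [eq_mul_inv_iff_mul_eq, eq_mul_inv_iff_mul_eq, eq_inv_iff_mul_eq_one, ← this]; group
  exact of_Mg hi (g := F0.m) (e ▸ mul_mem (mul_mem (inv_mem hu) (inv_mem this)) (inv_mem hu)) fun p hp => by
    rw [muA_apply hp, ← h0.m_u hp, h0.m_inv]

end Cfsg.Agent.Oc
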