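import Mathlib
import Cfsg.Agent.Oc.NF
import Cfsg.Agent.Og.BC

/-! The torus lies in the system; identification of the two reflections for `q > 2`. -/

set_option autoImplicit false
set_option linter.unusedSectionVars false

namespace Cfsg.Agent.Oc

open Cfsg.Agent.Og SG Subgroup Cfsg.Agent.Fus Cfsg.FusionSystem
open scoped commutatorElement Pointwise

variable {K : Type*} [Field K] [CharP K 2] [Finite K] {s : Sg K} {F : FusionSystem (⊤ : Subgroup (SG s))}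

theorem tor_aux (hF : F.IsSaturated 2) (hN : NF F) {P N U : Subgroup (SG s)} {C : ℕ → Subgroup (SG s)} {n : ℕ}
    {ν δ : MulAut P} (h : Rk P C n N U ν) (hB : δ ∈ Bs P C n) (hδ : δ ∈ F.autGroup P ⊔ K0 P N (C n)) :
    ∃ t α β a, F.Mor ⊤ (df α β a) ∧ ∀ p ∈ P, ∃ y ∈ N, t * df α β a p * t⁻¹ = totA δ (p * y) := by
  have := h.nK
  obtain ⟨γ, hγ, κ, hκ, rfl⟩ := mem_sup_of_normal_right.1 hδ
  obtain ⟨τ, hτ, e⟩ := h.extend hF hγ ((mul_mem_cancel_right (h.kb hκ)).1 hB)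
  obtain ⟨t, α, β, a, h1, h2⟩ := hN τ hτ
  exact ⟨t, α, β, a, h1, fun p hp => ⟨_, ((mem_K0 h.iN.le h.hN).1 (inv_mem hκ)).1 p hp, by
    rw [mul_inv_cancel_left, ← totA_mul _ _ hp, mul_inv_cancel_right, ← h2, e p hp]⟩⟩

theorem torQ (hF : F.IsSaturated 2) (hN : NF F) {α β : Kˣ} {δ : MulAut (Qs s)}
    (e : ∀ p ∈ Qs s, totA δ p = dl (α : K) (β : K) p) (hδ : δ ∈ F.autGroup (Qs s) ⊔ K0 (Qs s) (Ys s) (Vs s)) :
    F.Mor ⊤ (dl (α : K) (β : K)) := by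
  obtain ⟨t, α', β', a, h1, h2⟩ := tor_aux hF hN rkQ (keyQ (by simp [e (x7 1) (by simp)])) hδ
  have k1 : ∀ c, (α' : K) * a c = α * (1 : K ≃+* K) c := fun c => by
    obtain ⟨y, hy, k⟩ := h2 (x1 c) (by simp)
    rw [e _ (mul_mem (by simp) (Ys_le_Qs hy))] at k
    have := congrArg SG.a1 k
    rw [conj_a1] at this
    simpa [df, hy.1] using this
  obtain ⟨rfl, -, rfl⟩ := df_inj k1 (rfl : β = β)
  obtain ⟨y, hy, k⟩ := h2 (x7 1) (by simp)
  rw [e _ (mul_mem (by simp) (Ys_le_Qs hy))] at k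
  have k7 := congrArg SG.a7 k
  simp [df, mem_Ys.1 hy] at k7
  obtain rfl : β' = β := s.wt_inj (i := 2) (j := 1) (by norm_num) (Units.ext (by
    simp [Sg.wt_apply]
    have := α'.ne_zero
    grind))
  exact h1.congr fun p _ => df_one _ _ p

theorem torR (hF : F.IsSaturated 2) (hN : NF F) {α β : Kˣ} {δ : MulAut (Rs s)}
    (e : ∀ p ∈ Rs s, totA δ p = dl (α : K) (β : K) p) (hδ : δ ∈ F.autGroup (Rs s) ⊔ K0 (Rs s) (R1s s) (Ph (Rs s))) :
    F.Mor ⊤ (dl (α : K) (β : K)) := by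
  obtain ⟨t, α', β', a, h1, h2⟩ := tor_aux hF hN rkR (keyR (by simp [e (w2 1 0) (by simp)])) hδ
  have k1 : ∀ c, (β' : K) * a c = β * (1 : K ≃+* K) c := fun c => by
    obtain ⟨y, hy, k⟩ := h2 (w8 c 0) (by simp)
    rw [e _ (mul_mem (by simp) (R1_le_R hy))] at k
    have := congrArg SG.a8 k
    simp [df, mem_R1s.1 hy] at this ⊢
    grind
  obtain ⟨rfl, -, rfl⟩ := df_inj k1 (rfl : β' = β')
  obtain ⟨y, hy, k⟩ := h2 (w2 1 0) (by simp)
  rw [e _ (mul_mem (by simp) (R1_le_R hy))] at k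
  have k7 := congrArg SG.a2 k
  simp [df, mem_R1s.1 hy] at k7
  obtain rfl : α' = α := Units.ext (by have := β'.ne_zero; grind)
  exact h1.congr fun p _ => df_one _ _ p

theorem exists_dlA {P : Subgroup (SG s)} (α β : Kˣ) (h : ∀ x ∈ P, dl (α : K) (β : K) x ∈ P) :
    ∃ φ : MulAut P, ∀ p ∈ P, totA φ p = dl (α : K) (β : K) p := by
  simpa only [df_one] using exists_dfA (P := P) (α := α) (β := β) (a := 1) (by simpa only [df_one] using h)

theorem res_mem {P : Subgroup (SG s)} {f : SG s → SG s} (h : F.Mor ⊤ f) {φ : MulAut P} (e : ∀ p ∈ P, totA φ p = f p) :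
    φ ∈ F.autGroup P := (mem_autGroup_iff le_top).2 ((h.mono le_top).congr fun p hp => (e p hp).symm)

theorem dl_Q (α β : K) {x : SG s} (h : x ∈ Qs s) : dl α β x ∈ Qs s := by simp [mem_Qs.1 h]

theorem dl_R (α β : K) {x : SG s} (h : x ∈ Rs s) : dl α β x ∈ Rs s := by simp [mem_Rs.1 h]

theorem tor {G : Type*} [Group G] [Finite G] {F0 : Ft s G} (h0 : RF0 F0) (hi : Function.Injective F0.u)
    (hF : F.IsSaturated 2) (hN : NF F) (hQ : F.IsEssential 2 (Qs s)) (hR : F.IsEssential 2 (Rs s)) (α β : Kˣ) :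
    F.Mor ⊤ (dl (α : K) (β : K)) := by
  have h1 : ∀ c : Kˣ, F.Mor ⊤ (dl (((c * s.σu c)⁻¹ : Kˣ) : K) (s.σu c : Kˣ)) := fun c => by
    obtain ⟨δ, e⟩ := exists_dlA (P := Qs s) (c * s.σu c)⁻¹ (s.σu c) fun _ => dl_Q _ _
    exact torQ hF hN e (of_Mg hi (C_Mg h0 hi hF hQ (F0.lt.h_mem_C c)) fun p hp => by rw [e p hp]; exact h0.tu _ _ p)
  have h2 : ∀ c : Kˣ, F.Mor ⊤ (dl (((c * s.σu c)⁻¹⁻¹ : Kˣ) : K) ((c * s.σu c)⁻¹ * s.σu c : Kˣ)) := fun c => by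
    obtain ⟨δ, e⟩ := exists_dlA (P := Rs s) (c * s.σu c)⁻¹ (s.σu c) fun _ => dl_R _ _
    have m := muA_mem h0 hi hF hR
    refine torR hF hN (δ := muA s * δ * muA s) (fun p hp => ?_) (mul_mem (mul_mem m (mem_sup_left (res_mem (h1 c) e))) m)
    rw [totA_mul _ _ hp, muA_apply hp, totA_mul _ _ (mu_mem p), e _ (mu_mem p), muA_apply (dl_R _ _ (mu_mem p)),
      mu_dl _ _ (mu_mem p), mu_mu hp]
  let f : Kˣ × Kˣ →* Kˣ × Kˣ := MonoidHom.mk' (fun x => ((x.1 * s.σu x.1)⁻¹ * (x.2 * s.σu x.2), s.σu x.1 * x.2⁻¹))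
    fun x y => by simp [mul_comm, mul_left_comm, mul_assoc]
  obtain ⟨⟨c, d⟩, e⟩ := Finite.surjective_of_injective ((injective_iff_map_eq_one f).2 fun ⟨c, d⟩ e => by
    obtain ⟨e1, e2⟩ := Prod.mk.inj e
    dsimp only at e1 e2
    obtain rfl := mul_inv_eq_one.1 e2
    obtain rfl : c = 1 := by
      rw [inv_mul_eq_one, Sg.σu_σu, mul_comm, sq] at e1
      simpa using e1
    simp) (α, β)
  obtain ⟨rfl, rfl⟩ := Prod.mk.inj e
  exact ((h1 c).comp (h2 d) fun _ _ => mem_top _).congr fun p _ => by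
    rw [dl_dl]; simp [mul_comm, mul_left_comm, mul_assoc]

theorem suz {f : SG s → SG s} {w : K → K → SG s} (hw : ∀ a v b u, w a v * w b u = w (a + b) (v + u + a * s.σ b))
    (inj : ∀ a v u, w a v = w a u → v = u) (hf : ∀ a v b u, f (w a v * w b u) = f (w a v) * f (w b u))
    (h1 : ∀ a, ∃ v, f (w a 0) = w a v) (h2 : ∀ (l : Kˣ) v, f (w 1 0) = w 1 v → f (w l 0) = w l (l * s.σ l * v))
    (hq : ∃ c : Kˣ, c ≠ 1) (a v : K) : f (w a v) = w a v := by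
  choose g hg using h1
  have k0 : ∀ v, f (w 0 v) = w 0 v := fun v => by
    obtain ⟨a, rfl⟩ := nm_surj (s := s) v
    simpa [hg, hw, CharTwo.add_self_eq_zero] using hf a 0 a 0
  have k1 : ∀ a v, f (w a v) = w a (g a + v) := fun a v => by simpa [hg, hw, k0] using hf a 0 0 v
  have k2 : ∀ a, g a = a * s.σ a * g 1 := fun a => by
    by_cases h : a = 0
    · simpa [h] using inj _ _ _ ((hg 0).symm.trans (k0 0))
    · exact inj _ _ _ ((hg a).symm.trans (h2 (Units.mk0 a h) _ (hg 1)))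
  obtain ⟨c, hc⟩ := hq
  have k3 := hf 1 0 c 0
  rw [hw, k1, hg, hg, hw] at k3
  have k4 := inj _ _ _ k3
  rw [k2 (1 + c), k2 c, map_add, map_one] at k4
  have : g 1 = 0 := by have := σ_ne (s := s) hc; grind
  rw [k1, k2, this]; simp

theorem fix_w2 {P : Subgroup (SG s)} {ξ : MulAut P} (hP : ∀ a v, w2 a v ∈ P)
    (h1 : ∀ a, (w2 a 0)⁻¹ * totA ξ (w2 a 0) ∈ R1s s)
    (hc : ∀ α β : Kˣ, ∀ p ∈ P, totA ξ (dl (α : K) (β : K) p) = dl (α : K) (β : K) (totA ξ p))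
    (hq : ∃ c : Kˣ, c ≠ 1) (a v : K) : totA ξ (w2 a v) = w2 a v :=
  suz (w := w2) (fun _ _ _ _ => by ext <;> simp) (fun _ _ _ e => congrArg SG.u2 e)
    (fun _ _ _ _ => mulOn_totA ξ _ (hP _ _) _ (hP _ _)) (fun a => by
      obtain ⟨c, h⟩ := hq
      have k := h1 a
      simp at k
      obtain ⟨b, u, e⟩ := mem_U2s_iff.1 (mem_U2_of_dl h (p := totA ξ (w2 a 0)) k.1 (by
        rw [← hc _ _ _ (hP _ _)]; congr 1; ext <;> simp))
      simp [e] at k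
      exact ⟨u, by rw [e]; congr 1; grind⟩)
    (fun l v e => by
      have := hc l 1 _ (hP 1 0)
      rw [e] at this
      convert this using 2 <;> ext <;> simp) hq a v

theorem cent_R (hq : ∃ c : Kˣ, c ≠ 1) {ξ : MulAut (Rs s)} (h : ξ ∈ K0 (Rs s) (R1s s) (Ph (Rs s)))
    (hc : ∀ α β : Kˣ, ∀ p ∈ Rs s, totA ξ (dl (α : K) (β : K) p) = dl (α : K) (β : K) (totA ξ p)) : ξ = 1 := by
  have h2 := fix_w2 (ξ := ξ) (by simp) (fun a => ((mem_K0 R1_le_R PhR_le).1 h).1 _ (by simp)) hc hq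
  have e : ∀ p ∈ Rs s, totA (muA s * ξ * (muA s)⁻¹) p = mu (totA ξ (mu p)) := fun p hp => by
    rw [inv_eq_of_mul_eq_one_right muA_sq, totA_mul _ _ hp, muA_apply hp, totA_mul _ _ (mu_mem p),
      muA_apply (totA_mem _ (mu_mem p))]
  have h8 := fix_w2 (ξ := muA s * ξ * (muA s)⁻¹) (by simp)
    (fun a => ((mem_K0 R1_le_R PhR_le).1 (rkR.nK.conj_mem _ h _)).1 _ (by simp)) (fun α β p hp => by
      rw [e _ (dl_R _ _ hp), e p hp, mu_dl _ _ hp, hc _ _ _ (mu_mem p), mu_dl _ _ (totA_mem _ (mu_mem p))]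
      simp) hq
  have hP : R1s s ≤ Ph (Rs s) := by
    obtain ⟨c, hc⟩ := hq
    have h7 : P7s s ≤ Ph (Rs s) := st_P7 Z5_PhR (l := 1 + c) (fun k => hc (Units.ext (by rw [Units.val_one]; grind))) fun t => by
      obtain ⟨a, rfl⟩ := s.σ_surj t
      exact ⟨⁅w2 a 0, w8 1 0⁆ * ⁅w2 (a * s.σ c) 0, w8 (c⁻¹ : K) 0⁆, mul_mem (cm_Ph (by simp) (by simp))
        (cm_Ph (by simp) (by simp)), by simp; grind, by simp; grind⟩
    exact st_R1 (st_Z6 h7 one_ne_zero fun t => ⟨w6 t 0, (mul_mem_cancel_left (h7 (show w4 (s.σ t) 0 ∈ _ by simp))).1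
      (mem_PhR (a := t) (b := 1) (by simp) (by simp) (by simp)), by simp, by simp⟩) one_ne_zero fun t =>
      ⟨w8 0 t, mem_PhR (a := 0) (b := 0) (by simp) (by simp) (by simp), by simp, by simp⟩
  have hM : Rs s ≤ mv ξ ⊥ ⊔ Ph (Rs s) := st_R (st_Z7R (hP.trans le_sup_right) one_ne_zero fun t =>
    ⟨w2 t 0, mem_sup_left ⟨by simp, by simp [h2]⟩, by simp, by simp⟩) one_ne_zero fun t =>
    ⟨w8 t 0, mem_sup_left ⟨by simp, by
      have := congrArg mu (h8 t 0)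
      rw [e _ (by simp), mu_mu (totA_mem _ (mu_mem _)), show mu (w2 t 0 : SG s) = w8 t 0 by ext <;> simp] at this
      simp [this]⟩, by simp, by simp⟩
  have : (mv ξ ⊥).subgroupOf (Rs s) = ⊤ := frattini_nongenerating (map_injective (subtype_injective _) (by
    rw [Subgroup.map_sup, GT.PG.map_frattini_subtype (pg_SG.to_subgroup _), map_subgroupOf_eq_of_le (G := SG s) (H := mv ξ ⊥) fun _ h => (mem_mv.1 h).1,
      ← MonoidHom.range_eq_map, range_subtype]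
    exact le_antisymm (sup_le (fun _ h => h.1) Ph_le) hM))
  exact eq_one_of_forall_totA fun x hx => (inv_mul_eq_one.1 (mem_bot.1 (subgroupOf_eq_top.1 this hx).2)).symm

theorem fix_x1 (hq : ∃ c : Kˣ, c ≠ 1) {ξ : MulAut (Qs s)} (h : ξ ∈ K0 (Qs s) (Ys s) (Vs s))
    (hc : ∀ α β : Kˣ, ∀ p ∈ Qs s, totA ξ (dl (α : K) (β : K) p) = dl (α : K) (β : K) (totA ξ p)) :
    (∀ a, totA ξ (x1 a) = x1 a) ∧ ∀ a v, totA ξ (w2 a v) = w2 a v := by
  have k := ((mem_K0 Ys_le_Qs Vs_le_Ys).1 h).1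
  refine ⟨fun a => ?_, fix_w2 (by simp) (fun a => by have := k (w2 a 0) (by simp); simp_all) hc hq⟩
  obtain ⟨c, h⟩ := hq
  have e : dl (1 : K) (c : K) (x1 a : SG s) = x1 a := by ext <;> simp
  have := hc 1 c (x1 a) (by simp)
  refine (inv_mul_eq_one.1 (eq_one_of_dl_one h (k _ (by simp)).1 ?_)).symm
  rw [Units.val_one, e] at this
  rw [dl_mul, ← this]; congr 1; ext <;> simp

theorem cent_Q (hq : ∃ c : Kˣ, c ≠ 1) {ξ : MulAut (Qs s)} (h : ξ ∈ K0 (Qs s) (Ys s) (Vs s))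
    (hc : ∀ α β : Kˣ, ∀ p ∈ Qs s, totA ξ (dl (α : K) (β : K) p) = dl (α : K) (β : K) (totA ξ p)) : ξ = 1 := by
  obtain ⟨h1, h2⟩ := fix_x1 hq h hc
  have e : ∀ p ∈ Qs s, totA (nuA s * ξ * (nuA s)⁻¹) p = nu (totA ξ (nu p)) := fun p hp => by
    rw [inv_eq_of_mul_eq_one_right nuA_sq, totA_mul _ _ hp, nuA_apply hp, totA_mul _ _ (nu_mem p),
      nuA_apply (totA_mem _ (nu_mem p))]
  obtain ⟨h7, h6⟩ := fix_x1 hq (rkQ.nK.conj_mem _ h (nuA s)) fun α β p hp => by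
    rw [e _ (dl_Q _ _ hp), e p hp, nu_dl _ _ hp, hc _ _ _ (nu_mem p), nu_dl _ _ (totA_mem _ (nu_mem p))]
    simp [mul_assoc]
  have h4 : ∀ a v, totA ξ (w4 a v) = w4 a v := suz (fun _ _ _ _ => by ext <;> simp) (fun _ _ _ e => congrArg SG.u4 e)
    (fun _ _ _ _ => mulOn_totA ξ _ (by simp) _ (by simp)) (fun a => by
      obtain ⟨c, h'⟩ := hq
      have k := ((mem_K0 Ys_le_Qs Vs_le_Ys).1 h).2 (w4 a 0) (by simp)
      obtain ⟨b, u, e⟩ := mem_U4s_iff.1 (mem_U4s_of_fix h' (p := totA ξ (w4 a 0)) (by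
        rw [dU, dh_eq, ← hc _ _ _ (by simp), ← dh_eq]; congr 1; ext <;> simp))
      simp [e] at k
      exact ⟨u, by rw [e]; congr 1; grind⟩)
    (fun l v e => by
      obtain ⟨c, hl⟩ := σ_onto (s := s) l.ne_zero
      have := hc c 1 (w4 1 0) (by simp)
      rw [e] at this
      convert this using 2 <;> ext <;> simp [← hl, mul_comm]) hq
  have m : ∀ {x : SG s}, x ∈ Qs s → totA ξ x = x → x ∈ mv ξ ⊥ := fun hx e => ⟨hx, by simp [e]⟩
  have m' : ∀ {x : SG s}, x ∈ Qs s → totA (nuA s * ξ * (nuA s)⁻¹) x = x → nu x ∈ mv ξ ⊥ := fun {x} hx k =>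
    m (nu_mem x) (by rw [← nu_nu (totA_mem _ (nu_mem x)), ← e x hx, k])
  have k4 := fun a v => m (x := w4 a v) (by simp) (h4 a v)
  have k2 := fun a v => m (x := w2 a v) (by simp) (h2 a v)
  have k6 : ∀ a v, w6 a v ∈ mv ξ ⊥ := fun a v => by
    convert m' (x := w2 a v) (by simp) (h6 a v) using 1; ext <;> simp
  refine eq_one_of_forall_totA fun x hx => (inv_mul_eq_one.1 (mem_bot.1 (show x ∈ mv ξ ⊥ from ?_).2)).symm
  rw [nf x, hx.1, hx.2, w8_zero, mul_one]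
  refine mul_mem (mul_mem (mul_mem (mul_mem (mul_mem (mul_mem (m (by simp) (h1 _)) (k2 _ _)) ?_) (k4 _ _)) ?_)
    (k6 _ _)) ?_
  · convert cm_mem (k2 x.a3 0) (k4 1 0) using 1; ext <;> simp
  · convert cm_mem (k4 x.a5 0) (k6 1 0) using 1; ext <;> simp
  · convert m' (x := x1 x.a7) (by simp) (h7 _) using 1; ext <;> simp

theorem mem_of_cent {P N U : Subgroup (SG s)} {C : ℕ → Subgroup (SG s)} {n : ℕ} {ν : MulAut P} (h : Rk P C n N U ν)
    (hE : F.IsEssential 2 P) (hT : ∀ α β : Kˣ, F.Mor ⊤ (dl (α : K) (β : K)))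
    (hd : ∀ α β : K, ∀ x ∈ P, dl α β x ∈ P) (hν : ν ∈ F.autGroup P ⊔ K0 P N (C n))
    (hn : ∀ α β : Kˣ, ∃ α' β' : Kˣ, ∀ p ∈ P, totA ν (dl (α : K) (β : K) p) = dl (α' : K) (β' : K) (totA ν p))
    (hc : ∀ ξ ∈ K0 P N (C n), (∀ α β : Kˣ, ∀ p ∈ P, totA ξ (dl (α : K) (β : K) p) = dl (α : K) (β : K) (totA ξ p)) →
      ξ = 1) : ν ∈ F.autGroup P := by
  choose d e using fun x : Kˣ × Kˣ => exists_dlA (P := P) x.1 x.2 (hd _ _)
  let f : Kˣ × Kˣ →* MulAut P := MonoidHom.mk' d fun x y => mulAut_ext_totA fun p hp => by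
    rw [totA_mul _ _ hp, e _ p hp, e _ p hp, e _ _ (hd _ _ p hp), dl_dl]; rfl
  have := h.nK
  refine adjust (H := f.range) h.pK (h.inf_le hE) h.inn (F.inn_le_autGroup le_top)
    (by rintro _ ⟨x, rfl⟩; exact res_mem (hT _ _) (e x)) (Odd.of_dvd_nat (by
      rw [Nat.card_prod]; exact Sg.odd_card_units.mul Sg.odd_card_units) (card_range_dvd f)) hν ?_
    fun ξ hξ k => hc ξ hξ fun α β p hp => ?_
  · rintro _ ⟨x, rfl⟩
    obtain ⟨α, β, k⟩ := hn x.1 x.2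
    exact ⟨(α, β), mulAut_ext_totA fun p hp => by
      rw [totA_mul _ _ hp, totA_mul _ _ (totA_mem _ hp)]
      exact (e _ p hp).trans (by
        rw [show totA (f x) _ = _ from e x _ (totA_mem _ hp), k _ (totA_mem _ hp), totA_totA_inv _ hp])⟩
  · rw [← e (α, β) p hp, ← e (α, β) _ (totA_mem _ hp), ← totA_mul _ _ hp, ← totA_mul _ _ hp]
    exact congrArg (totA · p) (k _ ⟨_, rfl⟩)

theorem big {G : Type*} [Group G] [Finite G] {F0 : Ft s G} (h0 : RF0 F0) (hi : Function.Injective F0.u)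
    (hF : F.IsSaturated 2) (hN : NF F) (hQ : F.IsEssential 2 (Qs s)) (hR : F.IsEssential 2 (Rs s))
    (hq : ∃ c : Kˣ, c ≠ 1) : nuA s ∈ F.autGroup (Qs s) ∧ muA s ∈ F.autGroup (Rs s) :=
  ⟨mem_of_cent rkQ hQ (tor h0 hi hF hN hQ hR) (fun _ _ _ => dl_Q _ _) (nuA_mem h0 hi hF hQ) (fun α β => ⟨_, _, fun p hp => by
      rw [nuA_apply hp, nuA_apply (dl_Q _ _ hp), nu_dl _ _ hp]⟩) fun _ => cent_Q hq,
    mem_of_cent rkR hR (tor h0 hi hF hN hQ hR) (fun _ _ _ => dl_R _ _) (muA_mem h0 hi hF hR) (fun α β => ⟨_, _, fun p hp => by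
      rw [muA_apply hp, muA_apply (dl_R _ _ hp), mu_dl _ _ hp]⟩) fun _ => cent_R hq⟩

end Cfsg.Agent.Oc
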