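import Mathlib
import Cfsg.Agent.Oc.Tor

/-! Realization by an extension of the model by field automorphisms. -/

set_option autoImplicit false
set_option linter.unusedSectionVars false

namespace Cfsg.Agent.Oc

open Cfsg.Agent.Og SG Subgroup Cfsg.Agent.Fus Cfsg.FusionSystem Cfsg.Agent.Loc.Mss
open scoped commutatorElement Pointwise

variable {K : Type*} [Field K] [CharP K 2] [Finite K] {s : Sg K} {F F' : FusionSystem (⊤ : Subgroup (SG s))}
  {G : Type*} [Group G] [Finite G] {F0 : Ft s G}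

theorem fld_eq (a : K ≃+* K) (p : SG s) : fld a p = df 1 1 a p := by simp [df]

theorem fld_fld (a b : K ≃+* K) (p : SG s) : fld a (fld b p) = fld (a * b) p := rfl

theorem fld_one (p : SG s) : fld 1 p = p := rfl

theorem fld_dl (a : K ≃+* K) (α β : Kˣ) (p : SG s) :
    fld a (dl (α : K) (β : K) p) = dl (au a α : K) (au a β : K) (fld a p) := by
  ext <;> simp [aut_σ]

theorem au_σu (a : K ≃+* K) (c : Kˣ) : au a (s.σu c) = s.σu (au a c) := Units.ext (aut_σ a _)

variable (F0) in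
/-- `ψ` acts on the letters as the field automorphism `a`. -/
structure Ac (ψ : MulAut G) (a : K ≃+* K) : Prop where
  u : ∀ p, ψ (F0.u p) = F0.u (fld a p)
  t : ∀ x, ψ (F0.t x) = F0.t (au a x.1, au a x.2)
  n : ψ F0.n = F0.n
  m : ψ F0.m = F0.m

theorem Ac.mul {ψ ψ' : MulAut G} {a a' : K ≃+* K} (h : Ac F0 ψ a) (h' : Ac F0 ψ' a') : Ac F0 (ψ * ψ') (a * a') :=
  ⟨fun p => by rw [MulAut.mul_apply, h'.u, h.u]; rfl, fun p => by rw [MulAut.mul_apply, h'.t, h.t]; rfl,
    by rw [MulAut.mul_apply, h'.n, h.n], by rw [MulAut.mul_apply, h'.m, h.m]⟩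

theorem Ac.eq_one (hG : F0.G0 = ⊤) {ψ : MulAut G} (h : Ac F0 ψ 1) : ψ = 1 := MulEquiv.ext fun g =>
  F0.G0_le (M := ψ.toMonoidHom.eqLocus (MonoidHom.id G)) h.u h.t h.n h.m (hG ▸ mem_top g)

theorem exists_ac (h : RF F0) (hi : Function.Injective F0.u) (hG : F0.G0 = ⊤) (a : K ≃+* K) : ∃ ψ, Ac F0 ψ a := by
  let E : Ft s G := ⟨F0.u.comp (MonoidHom.mk' (fld a) (fld_mul a)), F0.t.comp ((au a).prodMap (au a)), F0.n, F0.m⟩
  have e : ∀ c, E.lt.h c = F0.lt.h (au a c) := fun c => congrArg F0.t (by simp [au_σu])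
  have hE : RF E :=
    { rc :=
        { nn := h.rc.nn
          nu := fun p h1 h2 => (h.rc.nu (fld a p) (by simp [h1]) (by simp [h2])).trans
            (congrArg F0.u (by ext <;> simp [aut_σ]))
          hu := fun c p => by
            rw [e]
            exact (h.rc.hu _ (fld a p)).trans (congrArg F0.u (by ext <;> simp [aut_σ]))
          nh := fun c => by rw [e, e, map_inv]; exact h.rc.nh _
          r1 := fun b v N k => by
            have := h.rc.r1 (a b) (a v) (au a N) (by simp [k, aut_σ])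
            have k : ∀ b v, E.lt.u (w8 b v) = F0.lt.u (w8 (a b) (a v)) := fun b v =>
              congrArg F0.u (by ext <;> simp)
            rw [e, map_div, au_σu, k, k, k]
            simpa [aut_σ] using this }
      mm := h.mm
      mu := fun p h1 => (h.mu (fld a p) (by simp [h1])).trans (congrArg F0.u (by ext <;> simp [aut_σ]))
      tu := fun α β p => (h.tu _ _ (fld a p)).trans (congrArg F0.u (fld_dl a α β p).symm)
      nt := fun α β => (h.nt _ _).trans (congrArg F0.t (by simp [au_σu]))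
      mt := fun α β => (h.mt _ _).trans (congrArg F0.t (by simp))
      m3 := by convert h.m3 using 3; exact congrArg F0.u (by ext <;> simp)
      br := h.br }
  obtain ⟨f, f1, f2, f3, f4⟩ := h.iso hi hE (hi.comp fun p r k => by
    rw [← fld_one p, ← inv_mul_cancel a, ← fld_fld, show fld a p = fld a r from k]; ext <;> simp)
  let g : G →* G := E.G0.subtype.comp (f.toMonoidHom.comp ((MonoidHom.id G).codRestrict _ fun x => hG ▸ mem_top x))
  exact ⟨MulEquiv.ofBijective g (Finite.injective_iff_bijective.1 fun x y k =>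
    congrArg Subtype.val (f.injective (Subtype.ext k))), f1, f2, f3, f4⟩

theorem norm_S (h : RF F0) (hi : Function.Injective F0.u) (hG : F0.G0 = ⊤) {g : G} {φ : MulAut (⊤ : Subgroup (SG s))}
    (e : ∀ p, F0.u (totA φ p) = g * F0.u p * g⁻¹) : g ∈ F0.BF := by
  have h1 : g ∈ 𝐍[F0.lt.S] := mem_normalizer_fintype (by rintro _ ⟨p, rfl⟩; exact ⟨_, e p⟩)
  have h2 : g ∈ F0.lt.C ⊔ F0.H := h.norm_X hi ▸ ⟨hG ▸ mem_top g, mem_normalizer_fintype (by
    rintro _ ⟨p, hp, rfl⟩; exact ⟨_, sX.mp φ (mem_top φ) p hp, e p⟩)⟩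
  obtain ⟨c, hc, _, ⟨x, rfl⟩, rfl⟩ := (mem_sup_norm h.H_norm_C).1 h2
  have h3 : c ∈ F0.lt.B := OC.norm_S ⟨h.rc, hi⟩ ▸ ⟨hc, (mul_mem_cancel_right (h.BF_norm_S (F0.t_mem_BF x))).1 h1⟩
  exact mul_mem (F0.lt.B_le F0.u_mem_BF (fun _ => F0.t_mem_BF _) h3) (F0.t_mem_BF x)

theorem le_of (hF : F.IsSaturated 2) (hS : ∀ f, F.Iso ⊤ ⊤ f → F'.Mor ⊤ f) (h1 : nuA s ∈ F.autGroup (Qs s))
    (h1' : nuA s ∈ F'.autGroup (Qs s)) (h2 : muA s ∈ F.autGroup (Rs s)) (h2' : muA s ∈ F'.autGroup (Rs s)) :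
    F ≤ F' := le_iff_mor.2 fun _ _ => hF.mor_of_alperin (pg_SG.to_subgroup _) fun R g hR hg => by
  rcases hR with rfl | hR
  · exact hS g hg
  obtain ⟨α, hα, e⟩ := hg.exists_aut
  rcases ess_cases ⟨F, hF, hR⟩ with rfl | rfl
  exacts [(mor_totA le_top (rkQ.gen_le hF hS h1 h1' hα)).congr e, (mor_totA le_top (rkR.gen_le hF hS h2 h2' hα)).congr e]

theorem real {G : Type*} [Group G] [Finite G] {F0 : Ft s G} (h : RF F0) (hi : Function.Injective F0.u)
    (hG : F0.G0 = ⊤) (hF : F.IsSaturated 2) (hN : NF F) (hT : ∀ α β : Kˣ, F.Mor ⊤ (dl (α : K) (β : K)))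
    (h1 : nuA s ∈ F.autGroup (Qs s)) (h2 : muA s ∈ F.autGroup (Rs s)) :
    ∃ D : Subgroup (MulAut G), MG.RealizedIn F (G ⋊[D.subtype] D) := by
  let D : Subgroup (MulAut G) :=
    { carrier := {ψ | ∃ a, F.Mor ⊤ (fld a) ∧ Ac F0 ψ a}
      one_mem' := ⟨1, F.mor_id le_rfl, ⟨fun _ => rfl, fun _ => rfl, rfl, rfl⟩⟩
      mul_mem' := by
        rintro ψ ψ' ⟨a, k1, k2⟩ ⟨a', k1', k2'⟩
        exact ⟨a * a', k1.comp k1' fun _ _ => mem_top _, k2.mul k2'⟩
      inv_mem' := by
        rintro ψ ⟨a, k1, k2⟩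
        obtain ⟨χ, k⟩ := exists_ac h hi hG a⁻¹
        exact ⟨a⁻¹, (k1.iso_top.of_leftInv fun p _ => by rw [fld_fld, inv_mul_cancel, fld_one]).mor,
          inv_eq_of_mul_eq_one_right (Ac.eq_one hG (mul_inv_cancel a ▸ k2.mul k)) ▸ k⟩ }
  have hD : Odd (Nat.card D) := odd_of_sq fun ψ ⟨a, _, k⟩ e => by
    obtain rfl : a = 1 := RingEquiv.ext (aut_inv s fun x => by
      have := (k.mul k).u (x1 x)
      rw [e] at this
      exact (congrArg SG.a1 (hi this)).symm)
    exact k.eq_one hG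
  have := Finite.of_equiv _ (SemidirectProduct.equivProd (φ := D.subtype)).symm
  let j : SG s →* G ⋊[D.subtype] D := SemidirectProduct.inl.comp F0.u
  have hj : Function.Injective j := SemidirectProduct.inl_injective.comp hi
  have hT' : img j ⊤ = F0.lt.S.map SemidirectProduct.inl := by
    rw [img_eq_map, ← map_map, ← MonoidHom.range_eq_map]; rfl
  have hidx : ¬ 2 ∣ (img j ⊤).index := by
    rw [hT', index_map_of_injective _ SemidirectProduct.inl_injective, SemidirectProduct.range_inl_eq_ker_rightHom,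
      index_ker, MonoidHom.range_eq_top.2 SemidirectProduct.rightHom_surjective, card_top]
    exact Nat.prime_two.not_dvd_mul (by simpa [hG] using (h.syl hi).nd) (Nat.two_dvd_ne_zero.2 (Nat.odd_iff.1 hD))
  obtain ⟨E, hE⟩ := (groupFusionSystem j.range).exists_isIsoVia_equiv (MonoidHom.ofInjective hj).symm
  have hR : E.Realizes j ⊤ := (hE.symm.realizes realizes_group).congr fun _ _ => rfl
  have hs := hR.isSaturated (pg_SG.to_subgroup _) (by rwa [relIndex_top_right])
  have k : ∀ (g : G) (ψ : D) (x : G), (SemidirectProduct.inl g * SemidirectProduct.inr ψ : G ⋊[D.subtype] D) *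
      SemidirectProduct.inl x * (SemidirectProduct.inl g * SemidirectProduct.inr ψ)⁻¹ =
      SemidirectProduct.inl (g * ψ.1 x * g⁻¹) := fun g ψ x => by
    rw [map_mul, map_mul, map_inv, show ψ.1 x = D.subtype ψ x from rfl, SemidirectProduct.inl_aut, map_inv]; group
  have m : ∀ {P : Subgroup (SG s)} {f : SG s → SG s} (g : G) (ψ : D),
      (∀ x ∈ P, F0.u (f x) = g * ψ.1 (F0.u x) * g⁻¹) → E.Mor P f := fun g ψ e =>
    hR.mor_iff.2 ⟨le_top, fun _ _ => mem_top _, _, mem_top _, fun x hx =>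
      (congrArg SemidirectProduct.inl (e x hx)).trans (k g ψ _).symm⟩
  have h1' : nuA s ∈ E.autGroup (Qs s) := (mem_autGroup_iff le_top).2 (m F0.n 1 fun x hx => by
    rw [nuA_apply hx, ← h.n_u hx, h.n_inv]; rfl)
  have h2' : muA s ∈ E.autGroup (Rs s) := (mem_autGroup_iff le_top).2 (m F0.m 1 fun x hx => by
    rw [muA_apply hx, ← h.m_u hx, h.m_inv]; rfl)
  obtain rfl : F = E := le_antisymm' (le_of hF (fun τ hτ => by
    obtain ⟨t, α, β, a, k1, k2⟩ := hN τ hτ
    obtain ⟨ψ, k3⟩ := exists_ac h hi hG a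
    refine m (F0.u t * F0.t (α, β)) ⟨ψ, a, ((hT α⁻¹ β⁻¹).comp k1 fun _ _ => mem_top _).congr fun p _ => ?_, k3⟩
      fun x _ => ?_
    · simp [df, dl_dl]
    · rw [k2, k3.u, map_mul, map_mul, df, ← h.tu, map_inv]; group) h1 h1' h2 h2')
    (le_of hs (fun τ hτ => by
      obtain ⟨g, -, e⟩ := hR.exists_conj hτ.mor
      obtain ⟨a, k1, k2⟩ := g.right.2
      have e' : ∀ x, F0.u (τ x) = g.left * F0.u (fld a x) * g.left⁻¹ := fun x => SemidirectProduct.inl_injective
        ((e x (mem_top x)).trans (by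
          conv_lhs => rw [← SemidirectProduct.inl_left_mul_inr_right g]
          exact (k _ _ _).trans (by rw [k2.u])))
      obtain ⟨φ, -, e1⟩ := hτ.exists_aut
      obtain ⟨χ, e2⟩ := exists_dfA (P := (⊤ : Subgroup (SG s))) (α := 1) (β := 1) (a := a⁻¹) fun _ _ => mem_top _
      obtain ⟨p, ⟨α, β⟩, e3⟩ := h.mem_BF.1 (norm_S h hi hG (g := g.left) (φ := φ * χ) fun p => by
        rw [totA_mul _ _ (mem_top p), e1 _ (mem_top _), e', e2 p (mem_top p), ← fld_eq, fld_fld, mul_inv_cancel,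
          fld_one])
      exact (((hT α β).comp k1 fun _ _ => mem_top _).conj_comp (mem_top p)).congr fun x _ => hi (by
        rw [e', e3, map_mul, map_mul, ← h.tu, map_inv]; group)) h1' h1 h2' h2)
  exact ⟨D, j, hR, hidx⟩

end Cfsg.Agent.Oc
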